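import Cfsg.Agent.TAB.Sm2.Rep
import Cfsg.Agent.TAB.Sm2.Van
import Cfsg.Agent.S0387
import Cfsg.Prelude.Def_Spor_Mathieu

/-!
# The character table of `M11` (helper3, TAB)
-/

set_option autoImplicit false
set_option maxRecDepth 100000

namespace Cfsg.Agent.TAB.Sm2.M11

open Cfsg Cfsg.Agent.TAB.Eng Cfsg.Agent.TAB.Use
open Cfsg.Agent.SporadicA.GolayBase Cfsg.Agent.SporadicA.GolayPerm
open Cfsg.Agent.SporadicStructure.M24El Cfsg.Agent.H729.Trans Cfsg.Agent.H729.MData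
open scoped Pointwise

def dat : Dat where
  n := 8
  N := 7920
  ordL := [1, 2, 3, 4, 5, 6, 8, 11]
  cntL := [1, 165, 440, 990, 1584, 1320, 1980, 1440]
  pwL := [[], [(1, 1)], [(1, 2)], [(1, 3), (2, 1)], [(1, 4)], [(1, 5), (2, 2), (3, 1)], [(1, 6), (2, 3), (4, 1)], [(1, 7)]]

def v₁ : List ℤ := [12, 4, 3, 4, 2, 1, 2, 1]

def v₂ : List ℤ := []

def rA : List (List ℤ) := [[1, 1, 1, 1, 1, 1, 1, 1],
  [10, 2, 1, 2, 0, -1, 0, -1],
  [11, 3, 2, -1, 1, 0, -1, 0],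
  [44, 4, -1, 0, -1, 1, 0, 0],
  [45, -3, 0, 1, 0, 0, -1, 1],
  [55, -1, 1, -1, 0, -1, 1, 0]]

def rB : List (List ℤ) := [[20, -4, 2, 0, 0, 2, 0, -2],
  [32, 0, -4, 0, 2, 0, 0, -1]]

def c2 : List Cert := [⟨0, [.one, .gen 0 1 0, .gen 0 1 1, .lin [(8, 2), (6, 1)], .lin [(6, 3), (11, 1)], .lin [(4, 4), (1, 3)], .lin [(1, 5)]], [(0, 1), (1, 8), (2, 4), (3, 4)]⟩,
  ⟨2, [.one, .gen 0 1 0, .lin [(11, 1), (7, 0)], .lin [(1, 2)]], [(0, 1), (1, 2)]⟩]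

def c3 : List Cert := [⟨0, [.one, .lin [(1, 0)]], [(0, 1)]⟩,
  ⟨1, [.one, .gen 0 1 0, .lin [(7, 1), (5, 0)], .lin [(1, 2)]], [(0, 1), (1, 3)]⟩]

def c5 : List Cert := [⟨0, [.one, .lin [(1, 0)]], [(0, 1)]⟩]

def c11 : List Cert := [⟨0, [.one, .lin [(1, 0)]], [(0, 1)]⟩]

def cert : List (ℕ × ℕ × List Cert) := [(2, 4, c2), (3, 2, c3), (5, 1, c5), (11, 1, c11)]

theorem h2 : Eng.chkP dat 2 4 (2 ^ 4) [v₁] c2 (rA ++ rB) = true := by decide +kernel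

theorem h3 : Eng.chkP dat 3 2 (3 ^ 2) [v₁] c3 (rA ++ rB) = true := by decide +kernel

theorem h5 : Eng.chkP dat 5 1 (5 ^ 1) [v₁] c5 (rA ++ rB) = true := by decide +kernel

theorem h11 : Eng.chkP dat 11 1 (11 ^ 1) [v₁] c11 (rA ++ rB) = true := by decide +kernel

theorem hC : ∀ x ∈ cert, Eng.chkP dat x.1 x.2.1 (x.1 ^ x.2.1) [v₁] x.2.2 (rA ++ rB) = true := by
  intro x hx
  simp only [cert, List.mem_cons, List.not_mem_nil, or_false] at hx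
  rcases hx with rfl | rfl | rfl | rfl
  · exact h2
  · exact h3
  · exact h5
  · exact h11

def r0 : Rc where
  p := 2
  c := 984404615340628635531544718971832448
  wd := [(2, 0), (0, 0), (11, 0), (1, 0), (0, 1), (7, 0), (8, 0), (7, 1), (12, 0), (3, 0), (9, 0), (4, 0), (3, 1), (5, 0), (10, 0), (13, 0), (5, 1), (6, 0), (1, 1), (9, 1), (10, 1), (4, 1), (14, 0), (15, 0)]
  sts := [(1, [1], []),
    (3, [3], []),
    (0, [0], []),
    (9, [1, 2, 3, 4, 6, 8, 9, 12, 13, 16, 18], []),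
    (11, [5, 7, 10, 11, 14, 15, 17, 19, 20, 21, 22, 23], [[(0, 0), (1, 0), (0, 1), (3, 0), (4, 0), (3, 1), (1, 1), (4, 1)]]),
    (13, [1, 2, 3, 4, 6, 8, 9, 12, 13, 16, 18], []),
    (17, [5, 7, 10, 11, 14, 15, 17, 19, 20, 21, 22, 23], [[(2, 0), (0, 1), (3, 0), (5, 0), (5, 1), (6, 0), (1, 1), (4, 1)]]),
    (5, [5, 7, 10, 11, 14, 15, 17, 19, 20, 21, 22, 23], [[(2, 0), (0, 0), (7, 0), (7, 1), (3, 1), (6, 0), (1, 1), (4, 1)]]),
    (6, [1, 2, 3, 4, 6, 8, 9, 12, 13, 16, 18], [[(2, 0), (0, 0), (1, 0), (0, 1), (7, 0), (8, 0), (5, 1), (4, 1)]]),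
    (10, [5, 7, 10, 11, 14, 15, 17, 19, 20, 21, 22, 23], [[(0, 0), (1, 0), (0, 1), (9, 0), (5, 0), (5, 1), (1, 1), (9, 1)]]),
    (14, [5, 7, 10, 11, 14, 15, 17, 19, 20, 21, 22, 23], [[(2, 0), (1, 0), (0, 1), (3, 1), (10, 0), (6, 0), (10, 1), (4, 1)], [(2, 0), (1, 0), (7, 0), (5, 1), (6, 0), (1, 1), (9, 1), (10, 1)]]),
    (2, [1, 2, 3, 4, 6, 8, 9, 12, 13, 16, 18], [[(2, 0), (0, 0), (11, 0), (1, 0), (5, 0), (1, 1), (10, 1), (4, 1)]]),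
    (8, [1, 2, 3, 4, 6, 8, 9, 12, 13, 16, 18], [[(2, 0), (11, 0), (12, 0), (10, 0), (6, 0), (1, 1), (9, 1), (4, 1)]]),
    (15, [5, 7, 10, 11, 14, 15, 17, 19, 20, 21, 22, 23], [[(2, 0), (11, 0), (5, 0), (10, 0), (13, 0), (5, 1), (6, 0), (10, 1)]]),
    (22, [5, 7, 10, 11, 14, 15, 17, 19, 20, 21, 22, 23], [[(0, 0), (3, 1), (5, 0), (10, 0), (13, 0), (5, 1), (9, 1), (14, 0)]]),
    (23, [5, 7, 10, 11, 14, 15, 17, 19, 20, 21, 22, 23], [[(2, 0), (3, 1), (10, 0), (5, 1), (6, 0), (1, 1), (14, 0), (15, 0)]])]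
  bs := [1, 3]
  n := 48

def r1 : Rc where
  p := 3
  c := 486115426764614359583170501228632096
  wd := [(2, 0), (1, 0), (0, 0), (8, 0), (8, 2), (5, 0), (0, 1), (6, 0), (8, 1), (9, 0), (10, 0), (6, 2), (9, 1), (9, 2), (5, 2), (7, 0), (0, 2), (11, 0), (3, 0), (5, 1), (7, 1), (7, 2), (4, 0), (6, 1)]
  sts := [(2, [2], []),
    (1, [1], []),
    (0, [0], []),
    (18, [1, 2, 3, 4, 6, 8, 9, 12, 13, 16, 18], []),
    (22, [5, 7, 10, 11, 14, 15, 17, 19, 20, 21, 22, 23], []),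
    (5, [5, 7, 10, 11, 14, 15, 17, 19, 20, 21, 22, 23], [[(2, 0), (0, 0), (5, 0), (0, 1), (5, 2), (0, 2), (5, 1), (4, 0)]]),
    (7, [5, 7, 10, 11, 14, 15, 17, 19, 20, 21, 22, 23], [[(2, 0), (5, 0), (6, 0), (6, 2), (5, 2), (3, 0), (5, 1), (6, 1)]]),
    (15, [5, 7, 10, 11, 14, 15, 17, 19, 20, 21, 22, 23], [[(1, 0), (0, 0), (5, 2), (0, 2), (3, 0), (5, 1), (7, 1), (6, 1)]]),
    (3, [1, 2, 3, 4, 6, 8, 9, 12, 13, 16, 18], [[(8, 0), (8, 2), (0, 2), (3, 0), (7, 1), (7, 2), (4, 0), (6, 1)]]),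
    (9, [1, 2, 3, 4, 6, 8, 9, 12, 13, 16, 18], [[(1, 0), (9, 1), (9, 2), (5, 2), (7, 0), (0, 2), (5, 1), (4, 0)], [(2, 0), (8, 0), (9, 2), (5, 2), (0, 2), (5, 1), (7, 2), (6, 1)]]),
    (10, [5, 7, 10, 11, 14, 15, 17, 19, 20, 21, 22, 23], [[(10, 0), (9, 1), (5, 2), (7, 0), (0, 2), (7, 1), (7, 2), (6, 1)]]),
    (17, [5, 7, 10, 11, 14, 15, 17, 19, 20, 21, 22, 23], [[(2, 0), (9, 1), (5, 2), (0, 2), (11, 0), (3, 0), (4, 0), (6, 1)]])]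
  bs := [2, 1]
  n := 18

def r2 : Rc where
  p := 4
  c := 932802816281274281160159712044682496
  wd := [(4, 0), (0, 0), (1, 0), (1, 1), (0, 2), (5, 0), (7, 0), (2, 0), (0, 1), (1, 2), (5, 1), (2, 2), (0, 3), (8, 0), (3, 0), (3, 1), (1, 3), (2, 3), (9, 0), (6, 0), (2, 1), (6, 1), (3, 3), (3, 2)]
  sts := [(1, [1], []),
    (2, [1, 2, 3, 4, 6, 8, 9, 12, 13, 16, 18], []),
    (7, [5, 7, 10, 11, 14, 15, 17, 19, 20, 21, 22, 23], [[(0, 0), (1, 0), (1, 1), (0, 2), (1, 2), (1, 3), (2, 3), (2, 1)]]),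
    (14, [5, 7, 10, 11, 14, 15, 17, 19, 20, 21, 22, 23], [[(0, 0), (0, 2), (3, 0), (3, 1), (2, 3), (2, 1), (3, 3), (3, 2)], [(0, 0), (1, 0), (2, 0), (0, 3), (3, 1), (1, 3), (2, 3), (3, 2)]]),
    (0, [0], []),
    (5, [5, 7, 10, 11, 14, 15, 17, 19, 20, 21, 22, 23], [[(4, 0), (0, 0), (1, 0), (1, 1), (5, 0), (3, 0), (2, 3), (3, 2)]]),
    (19, [5, 7, 10, 11, 14, 15, 17, 19, 20, 21, 22, 23], [[(4, 0), (0, 0), (1, 0), (0, 3), (2, 3), (6, 0), (2, 1), (3, 3)]]),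
    (6, [1, 2, 3, 4, 6, 8, 9, 12, 13, 16, 18], [[(4, 0), (7, 0), (0, 3), (3, 1), (1, 3), (2, 3), (6, 0), (6, 1)]]),
    (13, [1, 2, 3, 4, 6, 8, 9, 12, 13, 16, 18], [[(0, 0), (0, 3), (8, 0), (3, 0), (3, 1), (1, 3), (6, 0), (3, 3)]]),
    (18, [1, 2, 3, 4, 6, 8, 9, 12, 13, 16, 18], [[(4, 0), (0, 3), (3, 0), (1, 3), (2, 3), (9, 0), (3, 3), (3, 2)]])]
  bs := [1]
  n := 8

def r3 : Rc where
  p := 5
  c := 879224355435414949203060197848334528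
  wd := [(6, 0), (4, 0), (3, 0), (3, 3), (3, 2), (5, 0), (4, 1), (5, 3), (0, 0), (4, 2), (2, 0), (7, 0), (4, 3), (4, 4), (1, 0), (2, 1), (3, 1), (5, 2), (3, 4), (2, 2), (5, 1), (2, 4), (5, 4), (2, 3)]
  sts := [(8, [1, 2, 3, 4, 6, 8, 9, 12, 13, 16, 18], []),
    (14, [5, 7, 10, 11, 14, 15, 17, 19, 20, 21, 22, 23], []),
    (10, [5, 7, 10, 11, 14, 15, 17, 19, 20, 21, 22, 23], []),
    (2, [1, 2, 3, 4, 6, 8, 9, 12, 13, 16, 18], [[(3, 0), (3, 3), (3, 2), (0, 0), (2, 0), (1, 0), (2, 1), (3, 1), (3, 4), (2, 2), (2, 4), (2, 3)]]),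
    (1, [1, 2, 3, 4, 6, 8, 9, 12, 13, 16, 18], [[(3, 0), (3, 3), (3, 2), (4, 3), (4, 4), (2, 1), (3, 1), (2, 4)]]),
    (5, [5, 7, 10, 11, 14, 15, 17, 19, 20, 21, 22, 23], [[(4, 0), (4, 3), (4, 4), (1, 0), (2, 1), (3, 1), (2, 2), (5, 4)]]),
    (0, [0], [[(6, 0), (4, 3), (1, 0), (3, 1), (5, 2), (3, 4), (5, 4), (2, 3)]]),
    (11, [5, 7, 10, 11, 14, 15, 17, 19, 20, 21, 22, 23], [[(7, 0), (4, 4), (2, 1), (3, 1), (5, 2), (2, 4), (5, 4), (2, 3)]])]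
  bs := []
  n := 5

def r4 : Rc where
  p := 6
  c := 724958882597364861866725067172417024
  wd := [(6, 0), (0, 0), (4, 0), (4, 1), (0, 3), (2, 0), (0, 2), (2, 1), (3, 0), (0, 4), (2, 2), (7, 0), (3, 1), (3, 2), (5, 0), (1, 0), (0, 1), (1, 4), (0, 5), (1, 2), (1, 1), (1, 5), (5, 1), (1, 3)]
  sts := [(1, [1], []),
    (15, [5, 7, 10, 11, 14, 15, 17, 19, 20, 21, 22, 23], [[(0, 0), (0, 3), (0, 2), (1, 4), (0, 5), (1, 2), (1, 1), (1, 5)]]),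
    (5, [5, 7, 10, 11, 14, 15, 17, 19, 20, 21, 22, 23], [[(0, 3), (2, 0), (2, 1), (1, 0), (0, 1), (1, 4), (1, 1), (1, 5)]]),
    (8, [1, 2, 3, 4, 6, 8, 9, 12, 13, 16, 18], [[(0, 3), (3, 1), (3, 2), (0, 1), (1, 4), (1, 2), (1, 1), (1, 3)]]),
    (2, [1, 2, 3, 4, 6, 8, 9, 12, 13, 16, 18], [[(4, 0), (4, 1), (1, 0), (1, 4), (1, 2), (1, 1), (1, 5), (1, 3)], [(0, 0), (4, 0), (2, 0), (3, 2), (0, 1), (1, 4), (1, 2), (1, 5)]]),
    (14, [5, 7, 10, 11, 14, 15, 17, 19, 20, 21, 22, 23], [[(0, 0), (3, 1), (3, 2), (5, 0), (1, 0), (0, 1), (1, 2), (5, 1)], [(4, 0), (3, 1), (3, 2), (1, 0), (0, 5), (1, 1), (5, 1), (1, 3)]]),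
    (0, [0], [[(6, 0), (3, 1), (5, 0), (0, 1), (1, 4), (0, 5), (5, 1), (1, 3)]]),
    (11, [5, 7, 10, 11, 14, 15, 17, 19, 20, 21, 22, 23], [[(7, 0), (3, 2), (1, 0), (0, 1), (1, 4), (1, 5), (5, 1), (1, 3)]])]
  bs := [1]
  n := 6

def r5 : Rc where
  p := 8
  c := 487212215565085137517041133790987648
  wd := [(4, 0), (0, 0), (0, 7), (0, 2), (0, 4), (2, 0), (5, 0), (1, 0), (0, 5), (0, 3), (2, 3), (1, 4), (0, 1), (3, 0), (1, 7), (1, 6), (0, 6), (1, 5), (3, 1), (2, 1), (1, 1), (2, 2), (1, 2), (1, 3)]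
  sts := [(1, [1], []),
    (7, [5, 7, 10, 11, 14, 15, 17, 19, 20, 21, 22, 23], [[(0, 0), (0, 4), (1, 7), (1, 6), (1, 5), (1, 1), (1, 2), (1, 3)], [(0, 0), (0, 7), (1, 0), (0, 1), (1, 6), (0, 6), (1, 5), (1, 3)]]),
    (5, [5, 7, 10, 11, 14, 15, 17, 19, 20, 21, 22, 23], [[(0, 7), (0, 2), (1, 6), (1, 5), (2, 1), (1, 1), (2, 2), (1, 3)]]),
    (13, [1, 2, 3, 4, 6, 8, 9, 12, 13, 16, 18], [[(0, 0), (0, 1), (3, 0), (1, 7), (1, 6), (0, 6), (2, 1), (1, 2)]]),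
    (0, [0], [[(4, 0), (0, 1), (1, 7), (0, 6), (1, 5), (3, 1), (1, 2), (1, 3)]]),
    (6, [1, 2, 3, 4, 6, 8, 9, 12, 13, 16, 18], [[(5, 0), (1, 7), (1, 6), (3, 1), (2, 1), (2, 2), (1, 2), (1, 3)]])]
  bs := [1]
  n := 8

def r6 : Rc where
  p := 11
  c := 733993124602845496953610675189662112
  wd := [(2, 0), (0, 0), (0, 7), (0, 5), (0, 2), (1, 0), (0, 6), (1, 3), (0, 4), (0, 3), (1, 5), (3, 0), (0, 10), (0, 1), (1, 10), (1, 7), (0, 8), (1, 2), (0, 9), (1, 6), (1, 4), (1, 9), (1, 8), (1, 1)]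
  sts := [(1, [1], []),
    (5, [5, 7, 10, 11, 14, 15, 17, 19, 20, 21, 22, 23], [[(0, 0), (0, 10), (0, 1), (1, 10), (1, 7), (0, 8), (1, 6), (1, 8)]]),
    (0, [0], [[(2, 0), (0, 10), (1, 10), (0, 8), (1, 2), (0, 9), (1, 8), (1, 1)]]),
    (11, [5, 7, 10, 11, 14, 15, 17, 19, 20, 21, 22, 23], [[(3, 0), (0, 1), (1, 7), (0, 8), (1, 2), (1, 9), (1, 8), (1, 1)]])]
  bs := [1]
  n := 11

def r7 : Rc where
  p := 8
  c := 309367174885672305814235982153715968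
  wd := [(4, 0), (0, 0), (0, 3), (0, 2), (0, 4), (2, 0), (5, 0), (1, 0), (0, 1), (0, 7), (2, 3), (1, 4), (0, 5), (3, 0), (1, 3), (1, 6), (0, 6), (1, 1), (3, 1), (2, 1), (1, 5), (2, 2), (1, 2), (1, 7)]
  sts := [(1, [1], []),
    (7, [5, 7, 10, 11, 14, 15, 17, 19, 20, 21, 22, 23], [[(0, 0), (0, 4), (1, 3), (1, 6), (1, 1), (1, 5), (1, 2), (1, 7)], [(0, 0), (0, 3), (1, 0), (0, 5), (1, 6), (0, 6), (1, 1), (1, 7)]]),
    (5, [5, 7, 10, 11, 14, 15, 17, 19, 20, 21, 22, 23], [[(0, 3), (0, 2), (1, 6), (1, 1), (2, 1), (1, 5), (2, 2), (1, 7)]]),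
    (13, [1, 2, 3, 4, 6, 8, 9, 12, 13, 16, 18], [[(0, 0), (0, 5), (3, 0), (1, 3), (1, 6), (0, 6), (2, 1), (1, 2)]]),
    (0, [0], [[(4, 0), (0, 5), (1, 3), (0, 6), (1, 1), (3, 1), (1, 2), (1, 7)]]),
    (6, [1, 2, 3, 4, 6, 8, 9, 12, 13, 16, 18], [[(5, 0), (1, 3), (1, 6), (3, 1), (2, 1), (2, 2), (1, 2), (1, 7)]])]
  bs := [1]
  n := 8

def r8 : Rc where
  p := 11
  c := 309169446077031286161353732123609216
  wd := [(2, 0), (0, 0), (0, 9), (0, 8), (0, 1), (1, 0), (0, 3), (1, 7), (0, 2), (0, 7), (1, 8), (3, 0), (0, 5), (0, 6), (1, 5), (1, 9), (0, 4), (1, 1), (0, 10), (1, 3), (1, 2), (1, 10), (1, 4), (1, 6)]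
  sts := [(1, [1], []),
    (5, [5, 7, 10, 11, 14, 15, 17, 19, 20, 21, 22, 23], [[(0, 0), (0, 5), (0, 6), (1, 5), (1, 9), (0, 4), (1, 3), (1, 4)]]),
    (0, [0], [[(2, 0), (0, 5), (1, 5), (0, 4), (1, 1), (0, 10), (1, 4), (1, 6)]]),
    (11, [5, 7, 10, 11, 14, 15, 17, 19, 20, 21, 22, 23], [[(3, 0), (0, 6), (1, 9), (0, 4), (1, 1), (1, 10), (1, 4), (1, 6)]])]
  bs := [1]
  n := 11

/-- the classes -/
def rc (i : ℕ) : Rc := [r0, r1, r2, r3, r4, r5, r6, r7, r8].getD i r0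

/-- the representatives -/
abbrev cf (i : ℕ) : ℕ := (rc i).c

theorem k0 : chkR [340831, 1] r0 = true := by decide +kernel

theorem k1 : chkR [340831, 1] r1 = true := by decide +kernel

theorem k2 : chkR [340831, 1] r2 = true := by decide +kernel

theorem k3 : chkR [340831, 1] r3 = true := by decide +kernel

theorem k4 : chkR [340831, 1] r4 = true := by decide +kernel

theorem k5 : chkR [340831, 1] r5 = true := by decide +kernel

theorem k6 : chkR [340831, 1] r6 = true := by decide +kernel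

theorem k7 : chkR [340831, 1] r7 = true := by decide +kernel

theorem k8 : chkR [340831, 1] r8 = true := by decide +kernel

theorem hK : ∀ i < 9, chkR [340831, 1] (rc i) = true := by
  intro i hi
  interval_cases i
  · exact k0
  · exact k1
  · exact k2
  · exact k3
  · exact k4
  · exact k5
  · exact k6
  · exact k7
  · exact k8

theorem q0 : chkQ [340831, 1] r5 r7 [(3, 0), (0, 0), (0, 7), (0, 2), (0, 4), (2, 0), (4, 0), (1, 0), (0, 5), (0, 3), (2, 3), (1, 4), (0, 1), (5, 0), (1, 7), (1, 6), (0, 6), (1, 5), (5, 1), (2, 1), (1, 1), (2, 2), (1, 2), (1, 3)]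
    [(1, [1, 2, 3, 4, 6, 8, 9, 12, 13, 16, 18], []),
    (7, [5, 7, 10, 11, 14, 15, 17, 19, 20, 21, 22, 23], [[(0, 0), (0, 4), (1, 7), (1, 6), (1, 5), (1, 1), (1, 2), (1, 3)], [(0, 0), (0, 7), (1, 0), (0, 1), (1, 6), (0, 6), (1, 5), (1, 3)]]),
    (5, [5, 7, 10, 11, 14, 15, 17, 19, 20, 21, 22, 23], [[(0, 7), (0, 2), (1, 6), (1, 5), (2, 1), (1, 1), (2, 2), (1, 3)]]),
    (0, [0], [[(3, 0), (0, 0), (0, 7), (0, 1), (1, 5), (2, 1), (1, 1), (1, 2)]]),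
    (6, [1, 2, 3, 4, 6, 8, 9, 12, 13, 16, 18], [[(3, 0), (4, 0), (0, 1), (1, 6), (0, 6), (1, 5), (2, 1), (2, 2)]]),
    (13, [1, 2, 3, 4, 6, 8, 9, 12, 13, 16, 18], [[(3, 0), (0, 1), (1, 7), (0, 6), (1, 5), (5, 1), (1, 2), (1, 3)]])] = true := by decide +kernel

theorem q1 : chkQ [340831, 1] r6 r8 [(2, 0), (0, 0), (0, 7), (0, 5), (0, 2), (1, 0), (0, 6), (1, 3), (0, 4), (0, 3), (1, 5), (3, 0), (0, 10), (0, 1), (1, 10), (1, 7), (0, 8), (1, 2), (0, 9), (1, 6), (1, 4), (1, 9), (1, 8), (1, 1)]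
    [(1, [1, 2, 3, 4, 6, 8, 9, 12, 13, 16, 18], []),
    (5, [5, 7, 10, 11, 14, 15, 17, 19, 20, 21, 22, 23], [[(0, 0), (0, 10), (0, 1), (1, 10), (1, 7), (0, 8), (1, 6), (1, 8)]]),
    (0, [0], [[(2, 0), (0, 10), (1, 10), (0, 8), (1, 2), (0, 9), (1, 8), (1, 1)]]),
    (11, [5, 7, 10, 11, 14, 15, 17, 19, 20, 21, 22, 23], [[(3, 0), (0, 1), (1, 7), (0, 8), (1, 2), (1, 9), (1, 8), (1, 1)]])] = true := by decide +kernel

theorem sq_eq : Spor.squareDodecad = fin 340831 := by decide +kernel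

theorem sq_mem : fin 340831 ∈ dodecads := (fin_mem_dodecads_iff (by norm_num)).2 (by decide +kernel)

/-- the inclusion -/
def inc : Spor.M11 →* M24 where
  toFun g := ⟨(g : Equiv.Perm GolayPt), g.2.1.1⟩
  map_one' := rfl
  map_mul' _ _ := rfl

theorem inc_inj : Function.Injective inc := fun _ _ h =>
  Subtype.ext (congrArg (fun g : M24 => (g : Equiv.Perm GolayPt)) h)

theorem fixS (g : Spor.M11) : inc g • fin 340831 = fin 340831 := sq_eq ▸ g.2.1.2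

theorem fin_one : fin 1 = {some 0} := by decide +kernel

theorem hS : ∀ S ∈ [340831, 1], ∀ g : Spor.M11, inc g • fin S = fin S := fun S hS g => by
  simp only [List.mem_cons, List.not_mem_nil, or_false] at hS
  rcases hS with rfl | rfl
  · exact fixS g
  · have h : inc g • (some 0 : GolayPt) = some 0 := g.2.2
    rw [fin_one, Finset.smul_finset_singleton, h]

theorem hmem (y : M24) (h : ∀ S ∈ [340831, 1], y • fin S = fin S) : ∃ x : Spor.M11, inc x = y :=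
  ⟨⟨y, ⟨y.2, by
    have h1 := h _ List.mem_cons_self
    rw [← sq_eq] at h1
    exact h1⟩, by
    have h1 := h 1 (by simp)
    rw [fin_one, Finset.smul_finset_singleton, Finset.singleton_inj] at h1
    exact h1⟩, rfl⟩

theorem card_eq : Nat.card Spor.M11 = dat.N := by
  show _ = 7920
  rw [← S0387.result _ (sq_eq ▸ sq_mem : Spor.squareDodecad ∈ dodecads) (some 0) (by decide +kernel)]
  exact Nat.card_congr ⟨fun g => ⟨⟨g, g.2.1.1⟩, Subgroup.mem_inf.2 ⟨g.2.1.2, g.2.2⟩⟩,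
    fun g => ⟨((g : M24) : Equiv.Perm GolayPt),
      ⟨⟨(g : M24).2, (Subgroup.mem_inf.1 g.2).1⟩, (Subgroup.mem_inf.1 g.2).2⟩⟩, fun _ => rfl, fun _ => rfl⟩

theorem inv₁ : Inv inc (ptL 340831) := inv_ptL fixS

def tpL : List ℕ := [1, 2, 3, 4, 5, 6, 7, 6, 7]

def bxL : List (ℕ × ℕ) := [(0, 0), (0, 0), (1, 1), (2, 2), (3, 3), (4, 4), (5, 7), (6, 8)]

def prs : List (ℕ × ℕ) := [(5, 7), (6, 8)]

theorem reps : Reps inc 9 cf (fun i => (rc i).n) prs := by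
  refine reps_of_srch inc_inj hS hmem rc hK fun p hp => ?_
  simp only [prs, List.mem_cons, List.not_mem_nil, or_false] at hp
  rcases hp with rfl | rfl
  · exact ⟨by decide, by decide, _, _, q0⟩
  · exact ⟨by decide, by decide, _, _, q1⟩

theorem t0 : allL (fun i => tyB (ptL 340831) [] dat (fun t => (nth v₁ t, nth v₂ t)) (cf i) (tpL.getD i 0))
    (List.range' 0 9) = true := by decide +kernel

theorem hT : ∀ i < 9, tyB (ptL 340831) [] dat (fun t => (nth v₁ t, nth v₂ t)) (cf i) (tpL.getD i 0) = true := by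
  intro i hi
  exact forall_lt_of_allL t0 i (by omega) (by omega)

/-- the type function and the table -/
theorem tab : ∃ T : TD Spor.M11 dat, T.Mass ∧ Tab T (mkRows rA rB) ∧ ∀ t ∈ ([] : List ℕ), SigConj T t := by
  obtain ⟨T, hm, h1, h2, h3, h4⟩ := exists_T (tp := fun i => tpL.getD i 0) (bx := fun t => bxL.getD t (0, 0))
    inc_inj inv₁ inv_nil (D := dat) card_eq (by decide +kernel) (by decide +kernel) (by decide +kernel) reps hT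
    (by decide +kernel) (by decide +kernel) (by decide +kernel)
  refine ⟨T, hm, tab_of_rows hm h3 (virt_rows card_eq (fun sd hs => ?_) (by decide +kernel) hC)
    (by decide +kernel), fun t ht => ?_⟩
  · rw [List.mem_singleton.1 hs]
    exact h1
  · exact absurd ht List.not_mem_nil

theorem van : VAN.Van3 Spor.M11 := by
  obtain ⟨T, hm, h, -⟩ := tab
  exact h.van3 (inh_of_mass hm (by decide +kernel)) card_eq [(2, 4), (3, 2), (5, 1), (11, 1)] (by decide +kernel) 1 4 7 (by decide +kernel)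

theorem odd : OddRat Spor.M11 := by
  obtain ⟨T, hm, h, -⟩ := tab
  exact h.oddRat (inh_of_mass hm (by decide +kernel)) [] (by decide +kernel) (by decide +kernel)

theorem sig : OddSig Spor.M11 := by
  obtain ⟨T, hm, h, h'⟩ := tab
  exact h.oddSig (inh_of_mass hm (by decide +kernel)) [] (by decide +kernel) _ h' (by decide +kernel)

theorem deg : DegList Spor.M11
    [1, 10, 11, 44, 45, 55, 10, 10, 16, 16] := by
  obtain ⟨T, hm, h, -⟩ := tab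
  have h1 : (mkRows rA rB).deg = [1, 10, 11, 44, 45, 55, 10, 10, 16, 16] := by
    decide +kernel
  exact h1 ▸ h.degList

end Cfsg.Agent.TAB.Sm2.M11
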