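import Cfsg.Agent.TAB.Sm2.Rep
import Cfsg.Agent.TAB.Sm2.Van
import Cfsg.Agent.S0382
import Cfsg.Prelude.Def_Spor_Mathieu

/-!
# The character table of `M12` (helper3, TAB)
-/

set_option autoImplicit false
set_option maxRecDepth 100000

namespace Cfsg.Agent.TAB.Sm2.M12

open Cfsg Cfsg.Agent.TAB.Eng Cfsg.Agent.TAB.Use
open Cfsg.Agent.SporadicA.GolayBase Cfsg.Agent.SporadicA.GolayPerm
open Cfsg.Agent.SporadicStructure.M24El Cfsg.Agent.H729.Trans Cfsg.Agent.H729.MData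
open scoped Pointwise

def dat : Dat where
  n := 14
  N := 95040
  ordL := [1, 2, 2, 3, 3, 4, 4, 5, 6, 6, 8, 8, 10, 11]
  cntL := [1, 396, 495, 2640, 1760, 2970, 2970, 9504, 7920, 15840, 11880, 11880, 9504, 17280]
  pwL := [[], [(1, 1)], [(1, 2)], [(1, 3)], [(1, 4)], [(1, 5), (2, 2)], [(1, 6), (2, 2)], [(1, 7)], [(1, 8), (2, 3), (3, 1)], [(1, 9), (2, 4), (3, 2)], [(1, 10), (2, 5), (4, 2)], [(1, 11), (2, 6), (4, 2)], [(1, 12), (2, 7), (5, 1)], [(1, 13)]]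

def v₁ : List ℤ := [12, 0, 4, 0, 3, 0, 4, 2, 0, 1, 0, 2, 0, 1]

def v₂ : List ℤ := [132, 0, 20, 0, 6, 4, 4, 2, 0, 2, 0, 0, 0, 0]

def rA : List (List ℤ) := [[1, 1, 1, 1, 1, 1, 1, 1, 1, 1, 1, 1, 1, 1],
  [11, -1, 3, -1, 2, -1, 3, 1, -1, 0, -1, 1, -1, 0],
  [11, -1, 3, -1, 2, 3, -1, 1, -1, 0, 1, -1, -1, 0],
  [45, 5, -3, 3, 0, 1, 1, 0, -1, 0, -1, -1, 0, 1],
  [54, 6, 6, 0, 0, 2, 2, -1, 0, 0, 0, 0, 1, -1],
  [55, -5, -1, 1, 1, -1, 3, 0, 1, -1, 1, -1, 0, 0],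
  [55, -5, -1, 1, 1, 3, -1, 0, 1, -1, -1, 1, 0, 0],
  [55, -5, 7, 1, 1, -1, -1, 0, 1, 1, -1, -1, 0, 0],
  [66, 6, 2, 0, 3, -2, -2, 1, 0, -1, 0, 0, 1, 0],
  [99, -1, 3, 3, 0, -1, -1, -1, -1, 0, 1, 1, -1, 0],
  [120, 0, -8, 0, 3, 0, 0, 0, 0, 1, 0, 0, 0, -1],
  [144, 4, 0, -3, 0, 0, 0, -1, 1, 0, 0, 0, -1, 1],
  [176, -4, 0, -1, -4, 0, 0, 1, -1, 0, 0, 0, 1, 0]]

def rB : List (List ℤ) := [[32, 8, 0, 2, -4, 0, 0, 2, 2, 0, 0, 0, -2, -1]]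

def c2 : List Cert := [⟨0, [.one, .gen 0 1 0, .mul 0 0, .gen 1 1 0, .gen 0 1 1, .mul 3 0, .mul 1 1, .lin [(24, 5), (22, 4)], .lin [(4, 7), (40, 6), (48, 4), (8, 3), (43, 1)], .lin [(56, 8), (48, 7), (43, 6), (12, 5), (12, 4)], .lin [(50, 9), (4, 8), (46, 6), (13, 5)], .lin [(49, 9), (13, 7)], .lin [(4, 11), (5, 10)], .lin [(1, 12)]], [(0, 1), (1, 4), (2, 8), (3, 4), (4, 16), (5, 4), (6, 8)]⟩,
  ⟨3, [.one, .gen 0 3 0, .lin [(4, 1), (5, 0)], .lin [(1, 2)]], [(0, 1), (1, 4)]⟩,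
  ⟨4, [.one, .gen 0 1 0, .lin [(35, 1), (31, 0)], .lin [(1, 2)]], [(0, 1), (1, 2)]⟩,
  ⟨7, [.one, .gen 0 1 0, .lin [(2, 1), (31, 0)], .lin [(1, 2)]], [(0, 1), (1, 2)]⟩]

def c3 : List Cert := [⟨0, [.one, .gen 0 1 0, .lin [(3, 1), (11, 0)], .lin [(1, 2)]], [(0, 1), (1, 3)]⟩,
  ⟨1, [.one, .gen 0 2 0, .lin [(3, 1), (11, 0)], .lin [(1, 2)]], [(0, 1), (1, 3)]⟩,
  ⟨2, [.one, .gen 0 1 0, .lin [(13, 1), (17, 0)], .lin [(1, 2)]], [(0, 1), (1, 3)]⟩]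

def c5 : List Cert := [⟨0, [.one, .lin [(1, 0)]], [(0, 1)]⟩,
  ⟨1, [.one, .lin [(1, 0)]], [(0, 1)]⟩]

def c11 : List Cert := [⟨0, [.one, .lin [(1, 0)]], [(0, 1)]⟩]

def cert : List (ℕ × ℕ × List Cert) := [(2, 6, c2), (3, 3, c3), (5, 1, c5), (11, 1, c11)]

theorem h2 : Eng.chkP dat 2 6 (2 ^ 6) [v₁, v₂] c2 (rA ++ rB) = true := by decide +kernel

theorem h3 : Eng.chkP dat 3 3 (3 ^ 3) [v₁, v₂] c3 (rA ++ rB) = true := by decide +kernel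

theorem h5 : Eng.chkP dat 5 1 (5 ^ 1) [v₁, v₂] c5 (rA ++ rB) = true := by decide +kernel

theorem h11 : Eng.chkP dat 11 1 (11 ^ 1) [v₁, v₂] c11 (rA ++ rB) = true := by decide +kernel

theorem hC : ∀ x ∈ cert, Eng.chkP dat x.1 x.2.1 (x.1 ^ x.2.1) [v₁, v₂] x.2.2 (rA ++ rB) = true := by
  intro x hx
  simp only [cert, List.mem_cons, List.not_mem_nil, or_false] at hx
  rcases hx with rfl | rfl | rfl | rfl
  · exact h2
  · exact h3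
  · exact h5
  · exact h11

def r0 : Rc where
  p := 2
  c := 232973522026681028205297395523846274
  wd := [(0, 0), (4, 0), (0, 1), (5, 0), (4, 1), (2, 0), (5, 1), (8, 0), (9, 0), (10, 0), (6, 0), (7, 0), (9, 1), (10, 1), (6, 1), (3, 0), (1, 0), (7, 1), (1, 1), (11, 0), (8, 1), (3, 1), (11, 1), (2, 1)]
  sts := [(0, [0], []),
    (16, [0, 1, 2, 3, 4, 6, 8, 9, 12, 13, 16, 18], []),
    (5, [5, 7, 10, 11, 14, 15, 17, 19, 20, 21, 22, 23], []),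
    (15, [5, 7, 10, 11, 14, 15, 17, 19, 20, 21, 22, 23], [[(0, 0), (0, 1), (2, 0), (3, 0), (1, 0), (1, 1), (3, 1), (2, 1)]]),
    (1, [0, 1, 2, 3, 4, 6, 8, 9, 12, 13, 16, 18], []),
    (3, [0, 1, 2, 3, 4, 6, 8, 9, 12, 13, 16, 18], [[(4, 0), (0, 1), (5, 0), (4, 1), (5, 1), (3, 0), (1, 1), (2, 1)]]),
    (10, [5, 7, 10, 11, 14, 15, 17, 19, 20, 21, 22, 23], [[(0, 0), (4, 0), (4, 1), (6, 0), (6, 1), (1, 1), (3, 1), (2, 1)]]),
    (11, [5, 7, 10, 11, 14, 15, 17, 19, 20, 21, 22, 23], [[(4, 0), (5, 0), (6, 1), (3, 0), (1, 0), (7, 1), (1, 1), (3, 1)]]),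
    (7, [5, 7, 10, 11, 14, 15, 17, 19, 20, 21, 22, 23], [[(0, 0), (0, 1), (4, 1), (8, 0), (7, 1), (1, 1), (8, 1), (2, 1)]]),
    (8, [0, 1, 2, 3, 4, 6, 8, 9, 12, 13, 16, 18], [[(0, 0), (4, 0), (4, 1), (9, 1), (3, 0), (1, 0), (1, 1), (8, 1)]]),
    (9, [0, 1, 2, 3, 4, 6, 8, 9, 12, 13, 16, 18], [[(0, 0), (0, 1), (10, 1), (6, 1), (3, 0), (1, 0), (7, 1), (8, 1)]]),
    (19, [5, 7, 10, 11, 14, 15, 17, 19, 20, 21, 22, 23], [[(0, 0), (9, 1), (6, 1), (1, 0), (7, 1), (1, 1), (11, 1), (2, 1)]])]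
  bs := [0]
  n := 240

def r1 : Rc where
  p := 2
  c := 984404615340628635531544718971832448
  wd := [(2, 0), (0, 0), (11, 0), (1, 0), (0, 1), (7, 0), (8, 0), (7, 1), (12, 0), (3, 0), (9, 0), (4, 0), (3, 1), (5, 0), (10, 0), (13, 0), (5, 1), (6, 0), (1, 1), (9, 1), (10, 1), (4, 1), (14, 0), (15, 0)]
  sts := [(1, [1], []),
    (3, [3], []),
    (0, [0], []),
    (9, [0, 1, 2, 3, 4, 6, 8, 9, 12, 13, 16, 18], []),
    (11, [5, 7, 10, 11, 14, 15, 17, 19, 20, 21, 22, 23], [[(0, 0), (1, 0), (0, 1), (3, 0), (4, 0), (3, 1), (1, 1), (4, 1)]]),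
    (13, [0, 1, 2, 3, 4, 6, 8, 9, 12, 13, 16, 18], []),
    (17, [5, 7, 10, 11, 14, 15, 17, 19, 20, 21, 22, 23], [[(2, 0), (0, 1), (3, 0), (5, 0), (5, 1), (6, 0), (1, 1), (4, 1)]]),
    (5, [5, 7, 10, 11, 14, 15, 17, 19, 20, 21, 22, 23], [[(2, 0), (0, 0), (7, 0), (7, 1), (3, 1), (6, 0), (1, 1), (4, 1)]]),
    (6, [0, 1, 2, 3, 4, 6, 8, 9, 12, 13, 16, 18], [[(2, 0), (0, 0), (1, 0), (0, 1), (7, 0), (8, 0), (5, 1), (4, 1)]]),
    (10, [5, 7, 10, 11, 14, 15, 17, 19, 20, 21, 22, 23], [[(0, 0), (1, 0), (0, 1), (9, 0), (5, 0), (5, 1), (1, 1), (9, 1)]]),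
    (14, [5, 7, 10, 11, 14, 15, 17, 19, 20, 21, 22, 23], [[(2, 0), (1, 0), (0, 1), (3, 1), (10, 0), (6, 0), (10, 1), (4, 1)], [(2, 0), (1, 0), (7, 0), (5, 1), (6, 0), (1, 1), (9, 1), (10, 1)]]),
    (2, [0, 1, 2, 3, 4, 6, 8, 9, 12, 13, 16, 18], [[(2, 0), (0, 0), (11, 0), (1, 0), (5, 0), (1, 1), (10, 1), (4, 1)]]),
    (8, [0, 1, 2, 3, 4, 6, 8, 9, 12, 13, 16, 18], [[(2, 0), (11, 0), (12, 0), (10, 0), (6, 0), (1, 1), (9, 1), (4, 1)]]),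
    (15, [5, 7, 10, 11, 14, 15, 17, 19, 20, 21, 22, 23], [[(2, 0), (11, 0), (5, 0), (10, 0), (13, 0), (5, 1), (6, 0), (10, 1)]]),
    (22, [5, 7, 10, 11, 14, 15, 17, 19, 20, 21, 22, 23], [[(0, 0), (3, 1), (5, 0), (10, 0), (13, 0), (5, 1), (9, 1), (14, 0)]]),
    (23, [5, 7, 10, 11, 14, 15, 17, 19, 20, 21, 22, 23], [[(2, 0), (3, 1), (10, 0), (5, 1), (6, 0), (1, 1), (14, 0), (15, 0)]])]
  bs := [1, 3, 0]
  n := 192

def r2 : Rc where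
  p := 3
  c := 606416600436806193522739105874838738
  wd := [(0, 0), (1, 0), (1, 2), (4, 0), (0, 2), (5, 0), (1, 1), (5, 1), (4, 1), (2, 0), (6, 0), (7, 0), (2, 2), (2, 1), (3, 0), (6, 1), (4, 2), (3, 1), (0, 1), (7, 2), (6, 2), (5, 2), (7, 1), (3, 2)]
  sts := [(0, [0], []),
    (1, [0, 1, 2, 3, 4, 6, 8, 9, 12, 13, 16, 18], []),
    (9, [0, 1, 2, 3, 4, 6, 8, 9, 12, 13, 16, 18], []),
    (14, [5, 7, 10, 11, 14, 15, 17, 19, 20, 21, 22, 23], [[(1, 0), (1, 2), (0, 2), (2, 2), (2, 1), (3, 0), (3, 1), (0, 1)]]),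
    (3, [0, 1, 2, 3, 4, 6, 8, 9, 12, 13, 16, 18], [[(1, 2), (4, 0), (4, 1), (2, 1), (4, 2), (3, 1), (0, 1), (3, 2)]]),
    (5, [5, 7, 10, 11, 14, 15, 17, 19, 20, 21, 22, 23], [[(0, 0), (1, 0), (1, 2), (4, 0), (5, 0), (3, 0), (3, 1), (3, 2)]]),
    (10, [5, 7, 10, 11, 14, 15, 17, 19, 20, 21, 22, 23], [[(0, 0), (1, 2), (2, 1), (3, 0), (6, 1), (4, 2), (3, 1), (6, 2)], [(1, 0), (4, 0), (3, 0), (6, 1), (4, 2), (3, 1), (0, 1), (5, 2)]]),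
    (11, [5, 7, 10, 11, 14, 15, 17, 19, 20, 21, 22, 23], [[(0, 0), (2, 2), (3, 0), (4, 2), (3, 1), (0, 1), (7, 1), (3, 2)]])]
  bs := [0]
  n := 36

def r3 : Rc where
  p := 3
  c := 653796642825731244719993064590000140
  wd := [(0, 0), (0, 2), (1, 0), (6, 0), (2, 0), (3, 0), (7, 0), (3, 1), (2, 2), (1, 2), (4, 0), (4, 1), (0, 1), (2, 1), (8, 0), (5, 0), (1, 1), (3, 2), (9, 0), (10, 0), (4, 2), (11, 0), (5, 1), (5, 2)]
  sts := [(0, [0], []),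
    (2, [2], []),
    (4, [0, 1, 2, 3, 4, 6, 8, 9, 12, 13, 16, 18], []),
    (5, [5, 7, 10, 11, 14, 15, 17, 19, 20, 21, 22, 23], [[(0, 0), (1, 0), (2, 0), (3, 0), (2, 2), (0, 1), (1, 1), (3, 2)]]),
    (10, [5, 7, 10, 11, 14, 15, 17, 19, 20, 21, 22, 23], [[(0, 0), (0, 2), (2, 0), (3, 0), (4, 0), (2, 1), (3, 2), (4, 2)]]),
    (15, [5, 7, 10, 11, 14, 15, 17, 19, 20, 21, 22, 23], [[(0, 0), (0, 2), (1, 0), (2, 0), (2, 1), (1, 1), (5, 1), (5, 2)]]),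
    (3, [0, 1, 2, 3, 4, 6, 8, 9, 12, 13, 16, 18], [[(0, 2), (6, 0), (3, 0), (2, 1), (5, 0), (1, 1), (4, 2), (5, 2)]]),
    (6, [0, 1, 2, 3, 4, 6, 8, 9, 12, 13, 16, 18], [[(0, 0), (1, 0), (6, 0), (7, 0), (0, 1), (1, 1), (4, 2), (5, 2)]]),
    (14, [5, 7, 10, 11, 14, 15, 17, 19, 20, 21, 22, 23], [[(0, 0), (1, 0), (2, 1), (8, 0), (5, 0), (1, 1), (3, 2), (4, 2)]]),
    (18, [0, 1, 2, 3, 4, 6, 8, 9, 12, 13, 16, 18], [[(0, 0), (0, 1), (8, 0), (1, 1), (3, 2), (9, 0), (5, 1), (5, 2)]]),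
    (19, [5, 7, 10, 11, 14, 15, 17, 19, 20, 21, 22, 23], [[(0, 2), (0, 1), (2, 1), (8, 0), (5, 0), (1, 1), (10, 0), (5, 1)]]),
    (21, [5, 7, 10, 11, 14, 15, 17, 19, 20, 21, 22, 23], [[(6, 0), (0, 1), (2, 1), (3, 2), (9, 0), (10, 0), (11, 0), (5, 1)]])]
  bs := [0, 2]
  n := 54

def r4 : Rc where
  p := 4
  c := 978275997310813390594855344667823696
  wd := [(0, 0), (1, 0), (3, 0), (3, 1), (3, 3), (6, 0), (3, 2), (4, 0), (0, 3), (5, 0), (2, 0), (4, 3), (5, 1), (0, 2), (7, 0), (8, 0), (0, 1), (2, 3), (1, 1), (2, 1), (4, 2), (4, 1), (2, 2), (9, 0)]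
  sts := [(0, [0], []),
    (1, [1], []),
    (10, [5, 7, 10, 11, 14, 15, 17, 19, 20, 21, 22, 23], [[(0, 0), (0, 3), (2, 0), (0, 2), (0, 1), (2, 3), (2, 1), (2, 2)]]),
    (2, [0, 1, 2, 3, 4, 6, 8, 9, 12, 13, 16, 18], [[(0, 0), (3, 0), (3, 1), (3, 3), (3, 2), (0, 2), (2, 3), (2, 1)], [(0, 0), (1, 0), (3, 1), (3, 3), (0, 3), (2, 3), (1, 1), (2, 2)]]),
    (7, [5, 7, 10, 11, 14, 15, 17, 19, 20, 21, 22, 23], [[(0, 0), (1, 0), (3, 0), (3, 1), (0, 2), (1, 1), (4, 2), (4, 1)]]),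
    (9, [0, 1, 2, 3, 4, 6, 8, 9, 12, 13, 16, 18], [[(0, 0), (1, 0), (3, 0), (5, 1), (2, 3), (2, 1), (4, 2), (2, 2)]]),
    (5, [5, 7, 10, 11, 14, 15, 17, 19, 20, 21, 22, 23], [[(0, 0), (6, 0), (5, 1), (0, 2), (0, 1), (4, 2), (4, 1), (2, 2)]]),
    (14, [5, 7, 10, 11, 14, 15, 17, 19, 20, 21, 22, 23], [[(0, 0), (3, 3), (0, 2), (7, 0), (1, 1), (2, 1), (4, 2), (2, 2)]]),
    (15, [5, 7, 10, 11, 14, 15, 17, 19, 20, 21, 22, 23], [[(1, 0), (5, 1), (0, 2), (7, 0), (8, 0), (0, 1), (2, 1), (2, 2)]]),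
    (23, [5, 7, 10, 11, 14, 15, 17, 19, 20, 21, 22, 23], [[(0, 0), (5, 1), (7, 0), (0, 1), (2, 3), (1, 1), (2, 2), (9, 0)]])]
  bs := [0, 1]
  n := 32

def r5 : Rc where
  p := 4
  c := 475804665897442130522891683587459090
  wd := [(0, 0), (0, 3), (4, 0), (1, 0), (7, 0), (2, 0), (1, 2), (2, 3), (8, 0), (1, 1), (3, 0), (5, 0), (0, 2), (1, 3), (3, 3), (6, 0), (9, 0), (2, 2), (0, 1), (3, 1), (6, 1), (2, 1), (3, 2), (5, 1)]
  sts := [(0, [0], []),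
    (3, [0, 1, 2, 3, 4, 6, 8, 9, 12, 13, 16, 18], []),
    (5, [5, 7, 10, 11, 14, 15, 17, 19, 20, 21, 22, 23], [[(0, 0), (0, 3), (2, 0), (2, 3), (0, 2), (2, 2), (0, 1), (2, 1)], [(0, 3), (1, 0), (2, 0), (1, 2), (1, 1), (1, 3), (2, 2), (0, 1)]]),
    (10, [5, 7, 10, 11, 14, 15, 17, 19, 20, 21, 22, 23], [[(1, 0), (0, 2), (1, 3), (2, 2), (0, 1), (3, 1), (2, 1), (3, 2)]]),
    (2, [2], []),
    (11, [5, 7, 10, 11, 14, 15, 17, 19, 20, 21, 22, 23], [[(0, 0), (0, 3), (4, 0), (1, 0), (2, 0), (3, 3), (2, 2), (5, 1)]]),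
    (15, [5, 7, 10, 11, 14, 15, 17, 19, 20, 21, 22, 23], [[(0, 0), (0, 3), (1, 3), (6, 0), (2, 2), (0, 1), (3, 1), (5, 1)]]),
    (4, [0, 1, 2, 3, 4, 6, 8, 9, 12, 13, 16, 18], [[(0, 0), (7, 0), (1, 3), (3, 3), (0, 1), (3, 1), (6, 1), (3, 2)]]),
    (8, [0, 1, 2, 3, 4, 6, 8, 9, 12, 13, 16, 18], [[(0, 3), (8, 0), (0, 2), (3, 3), (0, 1), (6, 1), (2, 1), (3, 2)]]),
    (16, [0, 1, 2, 3, 4, 6, 8, 9, 12, 13, 16, 18], [[(0, 0), (0, 2), (3, 3), (9, 0), (2, 2), (0, 1), (3, 2), (5, 1)]])]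
  bs := [0, 2]
  n := 32

def r6 : Rc where
  p := 5
  c := 611705594954617926202833268491007554
  wd := [(0, 0), (1, 0), (0, 1), (4, 0), (1, 2), (5, 0), (1, 3), (2, 0), (1, 4), (0, 3), (6, 0), (2, 1), (7, 0), (0, 2), (3, 0), (2, 3), (0, 4), (2, 2), (1, 1), (3, 1), (3, 2), (2, 4), (3, 3), (3, 4)]
  sts := [(0, [0], []),
    (1, [0, 1, 2, 3, 4, 6, 8, 9, 12, 13, 16, 18], []),
    (7, [5, 7, 10, 11, 14, 15, 17, 19, 20, 21, 22, 23], [[(0, 1), (1, 3), (2, 0), (0, 2), (2, 3), (2, 2), (1, 1), (2, 4)]]),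
    (14, [5, 7, 10, 11, 14, 15, 17, 19, 20, 21, 22, 23], [[(0, 0), (1, 0), (0, 2), (2, 3), (2, 2), (1, 1), (3, 1), (3, 4)]]),
    (3, [0, 1, 2, 3, 4, 6, 8, 9, 12, 13, 16, 18], [[(0, 0), (4, 0), (0, 2), (3, 0), (0, 4), (3, 1), (2, 4), (3, 4)]]),
    (5, [5, 7, 10, 11, 14, 15, 17, 19, 20, 21, 22, 23], [[(5, 0), (0, 2), (3, 0), (2, 2), (1, 1), (3, 2), (2, 4), (3, 4)]]),
    (10, [5, 7, 10, 11, 14, 15, 17, 19, 20, 21, 22, 23], [[(0, 0), (6, 0), (2, 3), (2, 2), (1, 1), (3, 2), (2, 4), (3, 3)]]),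
    (12, [0, 1, 2, 3, 4, 6, 8, 9, 12, 13, 16, 18], [[(0, 0), (7, 0), (3, 0), (0, 4), (2, 2), (1, 1), (3, 3), (3, 4)]])]
  bs := [0]
  n := 10

def r7 : Rc where
  p := 6
  c := 440886958303998014228207400806580297
  wd := [(0, 0), (0, 4), (0, 5), (2, 0), (0, 2), (1, 0), (0, 3), (1, 1), (2, 5), (0, 1), (1, 3), (1, 5), (2, 3), (2, 4), (1, 4), (3, 0), (2, 2), (3, 1), (2, 1), (3, 5), (3, 3), (3, 2), (3, 4), (1, 2)]
  sts := [(0, [0], []),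
    (5, [5, 7, 10, 11, 14, 15, 17, 19, 20, 21, 22, 23], [[(0, 0), (0, 4), (1, 0), (0, 3), (1, 1), (0, 1), (1, 3), (1, 4)]]),
    (3, [0, 1, 2, 3, 4, 6, 8, 9, 12, 13, 16, 18], [[(0, 0), (2, 0), (0, 2), (1, 0), (2, 3), (2, 4), (2, 1), (1, 2)], [(0, 4), (0, 5), (2, 0), (0, 3), (1, 1), (2, 4), (1, 4), (2, 2)]]),
    (15, [5, 7, 10, 11, 14, 15, 17, 19, 20, 21, 22, 23], [[(0, 0), (2, 3), (1, 4), (2, 2), (3, 1), (2, 1), (3, 4), (1, 2)], [(0, 4), (2, 3), (2, 4), (1, 4), (3, 0), (2, 2), (3, 5), (3, 4)], [(0, 5), (2, 3), (2, 4), (3, 0), (2, 1), (3, 3), (3, 4), (1, 2)]])]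
  bs := [0]
  n := 12

def r8 : Rc where
  p := 6
  c := 612258285820134567494113635523431944
  wd := [(0, 0), (4, 0), (0, 3), (0, 4), (6, 0), (5, 0), (0, 2), (5, 1), (0, 1), (2, 0), (1, 0), (1, 2), (2, 2), (2, 1), (3, 0), (1, 1), (4, 1), (1, 3), (0, 5), (1, 4), (1, 5), (7, 0), (3, 1), (3, 2)]
  sts := [(0, [0], []),
    (10, [5, 7, 10, 11, 14, 15, 17, 19, 20, 21, 22, 23], [[(0, 4), (0, 2), (0, 1), (1, 0), (1, 1), (1, 3), (0, 5), (1, 4)]]),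
    (9, [0, 1, 2, 3, 4, 6, 8, 9, 12, 13, 16, 18], [[(0, 0), (0, 2), (0, 1), (2, 2), (2, 1), (1, 3), (0, 5), (1, 5)]]),
    (14, [5, 7, 10, 11, 14, 15, 17, 19, 20, 21, 22, 23], [[(0, 3), (2, 2), (2, 1), (1, 1), (0, 5), (1, 5), (3, 1), (3, 2)]]),
    (1, [0, 1, 2, 3, 4, 6, 8, 9, 12, 13, 16, 18], [[(0, 0), (2, 2), (3, 0), (4, 1), (1, 3), (0, 5), (3, 1), (3, 2)]]),
    (5, [5, 7, 10, 11, 14, 15, 17, 19, 20, 21, 22, 23], [[(0, 4), (5, 0), (2, 2), (3, 0), (1, 4), (1, 5), (3, 1), (3, 2)]]),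
    (4, [0, 1, 2, 3, 4, 6, 8, 9, 12, 13, 16, 18], [[(6, 0), (2, 2), (2, 1), (4, 1), (1, 3), (1, 4), (1, 5), (3, 2)]]),
    (21, [5, 7, 10, 11, 14, 15, 17, 19, 20, 21, 22, 23], [[(0, 4), (2, 2), (2, 1), (1, 3), (0, 5), (1, 4), (7, 0), (3, 1)]])]
  bs := [0]
  n := 6

def r9 : Rc where
  p := 8
  c := 808280301906253117497206241509982345
  wd := [(2, 0), (0, 0), (0, 2), (0, 6), (0, 1), (1, 0), (0, 7), (1, 2), (0, 5), (2, 1), (1, 1), (1, 4), (2, 3), (0, 4), (1, 6), (1, 3), (0, 3), (1, 7), (2, 2), (3, 0), (4, 0), (5, 0), (1, 5), (3, 1)]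
  sts := [(1, [1], []),
    (5, [5, 7, 10, 11, 14, 15, 17, 19, 20, 21, 22, 23], [[(0, 6), (0, 1), (1, 0), (0, 4), (1, 6), (0, 3), (1, 7), (1, 5)]]),
    (0, [0, 1, 2, 3, 4, 6, 8, 9, 12, 13, 16, 18], [[(0, 0), (0, 2), (0, 1), (2, 3), (0, 4), (1, 6), (1, 7), (2, 2)]]),
    (19, [5, 7, 10, 11, 14, 15, 17, 19, 20, 21, 22, 23], [[(2, 0), (2, 3), (1, 6), (0, 3), (1, 7), (2, 2), (1, 5), (3, 1)]]),
    (20, [5, 7, 10, 11, 14, 15, 17, 19, 20, 21, 22, 23], [[(0, 2), (2, 3), (0, 4), (1, 3), (2, 2), (4, 0), (1, 5), (3, 1)]]),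
    (21, [5, 7, 10, 11, 14, 15, 17, 19, 20, 21, 22, 23], [[(0, 6), (2, 3), (0, 4), (1, 7), (2, 2), (3, 0), (5, 0), (1, 5)]])]
  bs := [1]
  n := 8

def r10 : Rc where
  p := 8
  c := 887294099073346992471376840766931149
  wd := [(0, 0), (0, 4), (3, 0), (0, 6), (0, 7), (2, 0), (0, 5), (1, 0), (0, 2), (4, 0), (1, 1), (1, 4), (5, 0), (0, 1), (1, 2), (2, 3), (3, 1), (1, 7), (0, 3), (2, 1), (2, 2), (1, 6), (1, 3), (1, 5)]
  sts := [(0, [0], []),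
    (7, [5, 7, 10, 11, 14, 15, 17, 19, 20, 21, 22, 23], [[(0, 0), (0, 4), (0, 5), (0, 1), (1, 2), (1, 7), (1, 6), (1, 3)], [(0, 4), (0, 6), (0, 7), (1, 0), (0, 1), (1, 7), (1, 6), (1, 5)]]),
    (5, [5, 7, 10, 11, 14, 15, 17, 19, 20, 21, 22, 23], [[(0, 0), (0, 4), (0, 1), (2, 3), (1, 7), (0, 3), (2, 1), (1, 5)], [(0, 0), (0, 7), (0, 1), (1, 2), (0, 3), (2, 1), (2, 2), (1, 3)]]),
    (2, [0, 1, 2, 3, 4, 6, 8, 9, 12, 13, 16, 18], [[(0, 0), (3, 0), (0, 1), (1, 2), (2, 3), (3, 1), (1, 7), (2, 2)], [(0, 0), (0, 6), (0, 1), (1, 2), (3, 1), (2, 1), (1, 6), (1, 5)]]),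
    (9, [0, 1, 2, 3, 4, 6, 8, 9, 12, 13, 16, 18], [[(4, 0), (1, 2), (3, 1), (1, 7), (2, 1), (2, 2), (1, 6), (1, 3)]]),
    (12, [0, 1, 2, 3, 4, 6, 8, 9, 12, 13, 16, 18], [[(0, 0), (5, 0), (1, 2), (3, 1), (1, 7), (0, 3), (1, 3), (1, 5)]])]
  bs := [0]
  n := 8

def r11 : Rc where
  p := 10
  c := 487355407008968297723845245838334061
  wd := [(0, 0), (2, 0), (0, 8), (2, 1), (0, 3), (1, 0), (0, 9), (1, 9), (0, 5), (0, 4), (1, 5), (1, 4), (0, 6), (0, 1), (3, 0), (1, 1), (0, 2), (1, 6), (0, 7), (1, 7), (1, 8), (3, 1), (1, 2), (1, 3)]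
  sts := [(0, [0], []),
    (5, [5, 7, 10, 11, 14, 15, 17, 19, 20, 21, 22, 23], [[(0, 8), (0, 6), (0, 1), (1, 1), (0, 7), (1, 8), (1, 2), (1, 3)]]),
    (1, [0, 1, 2, 3, 4, 6, 8, 9, 12, 13, 16, 18], [[(0, 0), (2, 0), (0, 1), (1, 1), (1, 6), (0, 7), (1, 7), (1, 3)]]),
    (14, [5, 7, 10, 11, 14, 15, 17, 19, 20, 21, 22, 23], [[(0, 0), (0, 6), (3, 0), (0, 2), (1, 6), (0, 7), (1, 2), (1, 3)]])]
  bs := [0]
  n := 10

def r12 : Rc where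
  p := 11
  c := 928547313600734290544751504697593122
  wd := [(0, 0), (0, 8), (0, 1), (0, 2), (0, 4), (1, 0), (0, 5), (1, 8), (0, 3), (0, 9), (1, 3), (1, 7), (0, 6), (0, 7), (1, 10), (1, 4), (0, 10), (2, 0), (3, 0), (1, 1), (1, 9), (1, 2), (1, 6), (1, 5)]
  sts := [(0, [0], []),
    (5, [5, 7, 10, 11, 14, 15, 17, 19, 20, 21, 22, 23], [[(0, 8), (0, 6), (0, 7), (1, 10), (1, 4), (0, 10), (1, 1), (1, 6)]]),
    (17, [5, 7, 10, 11, 14, 15, 17, 19, 20, 21, 22, 23], [[(0, 0), (0, 1), (0, 7), (1, 10), (1, 4), (0, 10), (2, 0), (1, 9)]]),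
    (18, [0, 1, 2, 3, 4, 6, 8, 9, 12, 13, 16, 18], [[(0, 0), (0, 6), (1, 10), (0, 10), (2, 0), (3, 0), (1, 6), (1, 5)]])]
  bs := [0]
  n := 11

def r13 : Rc where
  p := 11
  c := 466623872679272148571030642665595395
  wd := [(0, 0), (0, 4), (0, 6), (0, 1), (0, 2), (1, 0), (0, 8), (1, 4), (0, 7), (0, 10), (1, 7), (1, 9), (0, 3), (0, 9), (1, 5), (1, 2), (0, 5), (2, 0), (3, 0), (1, 6), (1, 10), (1, 1), (1, 3), (1, 8)]
  sts := [(0, [0], []),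
    (5, [5, 7, 10, 11, 14, 15, 17, 19, 20, 21, 22, 23], [[(0, 4), (0, 3), (0, 9), (1, 5), (1, 2), (0, 5), (1, 6), (1, 3)]]),
    (17, [5, 7, 10, 11, 14, 15, 17, 19, 20, 21, 22, 23], [[(0, 0), (0, 6), (0, 9), (1, 5), (1, 2), (0, 5), (2, 0), (1, 10)]]),
    (18, [0, 1, 2, 3, 4, 6, 8, 9, 12, 13, 16, 18], [[(0, 0), (0, 3), (1, 5), (0, 5), (2, 0), (3, 0), (1, 3), (1, 8)]])]
  bs := [0]
  n := 11

/-- the classes -/
def rc (i : ℕ) : Rc := [r0, r1, r2, r3, r4, r5, r6, r7, r8, r9, r10, r11, r12, r13].getD i r0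

/-- the representatives -/
abbrev cf (i : ℕ) : ℕ := (rc i).c

theorem k0 : chkR [340831] r0 = true := by decide +kernel

theorem k1 : chkR [340831] r1 = true := by decide +kernel

theorem k2 : chkR [340831] r2 = true := by decide +kernel

theorem k3 : chkR [340831] r3 = true := by decide +kernel

theorem k4 : chkR [340831] r4 = true := by decide +kernel

theorem k5 : chkR [340831] r5 = true := by decide +kernel

theorem k6 : chkR [340831] r6 = true := by decide +kernel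

theorem k7 : chkR [340831] r7 = true := by decide +kernel

theorem k8 : chkR [340831] r8 = true := by decide +kernel

theorem k9 : chkR [340831] r9 = true := by decide +kernel

theorem k10 : chkR [340831] r10 = true := by decide +kernel

theorem k11 : chkR [340831] r11 = true := by decide +kernel

theorem k12 : chkR [340831] r12 = true := by decide +kernel

theorem k13 : chkR [340831] r13 = true := by decide +kernel

theorem hK : ∀ i < 14, chkR [340831] (rc i) = true := by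
  intro i hi
  interval_cases i
  · exact k0
  · exact k1
  · exact k2
  · exact k3
  · exact k4
  · exact k5
  · exact k6
  · exact k7
  · exact k8
  · exact k9
  · exact k10
  · exact k11
  · exact k12
  · exact k13

theorem q0 : chkQ [340831] r12 r13 [(0, 0), (0, 8), (0, 1), (0, 2), (0, 4), (1, 0), (0, 5), (1, 8), (0, 3), (0, 9), (1, 3), (1, 7), (0, 6), (0, 7), (1, 10), (1, 4), (0, 10), (2, 0), (3, 0), (1, 1), (1, 9), (1, 2), (1, 6), (1, 5)]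
    [(0, [0, 1, 2, 3, 4, 6, 8, 9, 12, 13, 16, 18], []),
    (5, [5, 7, 10, 11, 14, 15, 17, 19, 20, 21, 22, 23], [[(0, 8), (0, 6), (0, 7), (1, 10), (1, 4), (0, 10), (1, 1), (1, 6)]]),
    (17, [5, 7, 10, 11, 14, 15, 17, 19, 20, 21, 22, 23], [[(0, 0), (0, 1), (0, 7), (1, 10), (1, 4), (0, 10), (2, 0), (1, 9)]]),
    (18, [0, 1, 2, 3, 4, 6, 8, 9, 12, 13, 16, 18], [[(0, 0), (0, 6), (1, 10), (0, 10), (2, 0), (3, 0), (1, 6), (1, 5)]])] = true := by decide +kernel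

theorem sq_eq : Spor.squareDodecad = fin 340831 := by decide +kernel

theorem sq_mem : fin 340831 ∈ dodecads := (fin_mem_dodecads_iff (by norm_num)).2 (by decide +kernel)

/-- the inclusion -/
def inc : Spor.M12 →* M24 where
  toFun g := ⟨(g : Equiv.Perm GolayPt), g.2.1⟩
  map_one' := rfl
  map_mul' _ _ := rfl

theorem inc_inj : Function.Injective inc := fun _ _ h =>
  Subtype.ext (congrArg (fun g : M24 => (g : Equiv.Perm GolayPt)) h)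

theorem fixS (g : Spor.M12) : inc g • fin 340831 = fin 340831 := sq_eq ▸ g.2.2

theorem hS : ∀ S ∈ [340831], ∀ g : Spor.M12, inc g • fin S = fin S := fun S hS g => by
  rw [List.mem_singleton.1 hS]
  exact fixS g

theorem hmem (y : M24) (h : ∀ S ∈ [340831], y • fin S = fin S) : ∃ x : Spor.M12, inc x = y :=
  ⟨⟨y, y.2, by
    have h1 := h _ List.mem_cons_self
    rw [← sq_eq] at h1
    exact h1⟩, rfl⟩

theorem card_eq : Nat.card Spor.M12 = dat.N := by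
  show _ = 95040
  rw [← S0382.result _ (sq_eq ▸ sq_mem : Spor.squareDodecad ∈ dodecads)]
  exact Nat.card_congr ⟨fun g => ⟨⟨g, g.2.1⟩, g.2.2⟩,
    fun g => ⟨((g : M24) : Equiv.Perm GolayPt), ⟨(g : M24).2, g.2⟩⟩, fun _ => rfl, fun _ => rfl⟩

def l₂ : List ℕ := [3416079, 1413139, 421910, 12656663, 2207772, 4526126, 8663097, 10825794, 4563017, 806987, 9506893, 6557781, 5255258, 663645,
  8683614, 45159, 1384564, 2162811, 864389, 90318, 463064, 8855820, 4223245, 622863, 2634003, 8474906, 4587803, 1839388,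
  352547, 201013, 1454401, 381252, 4989254, 2232654, 9240913, 237906, 1065303, 2384216, 602472, 307594, 2425238, 1122713,
  4264387, 8401364, 262637, 2183687, 1405448, 430605, 8925710, 2564625, 4788761, 57883, 1245726, 786999, 1647171, 4403780,
  8675909, 2949708, 832080, 4538962, 8524371, 402026, 21116, 8716939, 4465308, 78514, 1315526, 2110153, 99029, 8499969,
  987906, 5571333, 6365962, 9708306, 615188, 4231958, 10486557, 2372388, 1053483, 361272, 2392899, 12849992, 213833, 1090380,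
  3216208, 8455014, 4203377, 140167, 283537, 525274, 861210, 459847, 95313, 5279, 1127686, 2430217, 304405, 8398155,
  4261212, 267634, 4470275, 8721940, 75309, 104010, 2106966, 1312345, 280334, 145176, 530245, 337856, 210955, 346141,
  596054, 272595, 8657159, 4536592, 10558, 2173253, 1378634, 39257, 371206, 1063445, 2365978, 4196943, 8464984, 334433,
  797449, 31554, 396116, 72588, 277580, 69395]

theorem l₂_eq : cwL 8 340831 6 = l₂ := by decide +kernel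

theorem inv₂ : Inv inc l₂ := l₂_eq ▸ inv_cwL fixS

theorem inv₁ : Inv inc (ptL 340831) := inv_ptL fixS

def tpL : List ℕ := [1, 2, 3, 4, 5, 6, 7, 8, 9, 10, 11, 12, 13, 13]

def bxL : List (ℕ × ℕ) := [(0, 0), (0, 0), (1, 1), (2, 2), (3, 3), (4, 4), (5, 5), (6, 6), (7, 7), (8, 8), (9, 9), (10, 10), (11, 11), (12, 13)]

def prs : List (ℕ × ℕ) := [(12, 13)]

theorem reps : Reps inc 14 cf (fun i => (rc i).n) prs := by
  refine reps_of_srch inc_inj hS hmem rc hK fun p hp => ?_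
  simp only [prs, List.mem_cons, List.not_mem_nil, or_false] at hp
  subst hp
  exact ⟨by decide, by decide, _, _, q0⟩

theorem t0 : allL (fun i => tyB (ptL 340831) l₂ dat (fun t => (nth v₁ t, nth v₂ t)) (cf i) (tpL.getD i 0))
    (List.range' 0 14) = true := by decide +kernel

theorem hT : ∀ i < 14, tyB (ptL 340831) l₂ dat (fun t => (nth v₁ t, nth v₂ t)) (cf i) (tpL.getD i 0) = true := by
  intro i hi
  exact forall_lt_of_allL t0 i (by omega) (by omega)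

/-- the type function and the table -/
theorem tab : ∃ T : TD Spor.M12 dat, T.Mass ∧ Tab T (mkRows rA rB) ∧ (∀ t ∈ ([] : List ℕ), SigConj T t) ∧
    ∃ x, T.ty x = 10 ∧ Nat.card (Subgroup.centralizer ({x} : Set Spor.M12)) ≤ 8 := by
  obtain ⟨T, hm, h1, h2, h3, h4⟩ := exists_T (tp := fun i => tpL.getD i 0) (bx := fun t => bxL.getD t (0, 0))
    inc_inj inv₁ inv₂ (D := dat) card_eq (by decide +kernel) (by decide +kernel) (by decide +kernel) reps hT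
    (by decide +kernel) (by decide +kernel) (by decide +kernel)
  refine ⟨T, hm, tab_of_rows hm h3 (virt_rows card_eq (fun sd hs => ?_) (by decide +kernel) hC)
    (by decide +kernel), fun t ht => ?_, ?_⟩
  · simp only [List.mem_cons, List.not_mem_nil, or_false] at hs
    rcases hs with rfl | rfl
    · exact h1
    · exact h2
  · exact absurd ht List.not_mem_nil
  · obtain ⟨x, -, hx⟩ := h4 9 (by decide) (by decide +kernel)
    exact ⟨x, hx⟩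

theorem van : VAN.Van3 Spor.M12 := by
  obtain ⟨T, hm, h, -, x, hx, hx'⟩ := tab
  exact van3_col h (inh_of_mass hm (by decide +kernel)) card_eq [(2, 6), (3, 3), (5, 1), (11, 1)] (by decide +kernel)
    hx' hx 13 (rw' rA rB) 12 13 (by decide +kernel) (by decide +kernel)

theorem odd : OddRat Spor.M12 := by
  obtain ⟨T, hm, h, -⟩ := tab
  exact h.oddRat (inh_of_mass hm (by decide +kernel)) [] (by decide +kernel) (by decide +kernel)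

theorem sig : OddSig Spor.M12 := by
  obtain ⟨T, hm, h, h', -⟩ := tab
  exact h.oddSig (inh_of_mass hm (by decide +kernel)) [] (by decide +kernel) _ h' (by decide +kernel)

theorem deg : DegList Spor.M12
    [1, 11, 11, 45, 54, 55, 55, 55, 66, 99, 120, 144, 176, 16, 16] := by
  obtain ⟨T, hm, h, -⟩ := tab
  have h1 : (mkRows rA rB).deg = [1, 11, 11, 45, 54, 55, 55, 55, 66, 99, 120, 144, 176, 16, 16] := by
    decide +kernel
  exact h1 ▸ h.degList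

end Cfsg.Agent.TAB.Sm2.M12
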