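import Cfsg.Agent.TAB.Sm2.Rep
import Cfsg.Agent.H334.Ore.M22

/-!
# The character table of `M22` (helper3, TAB)
-/

set_option autoImplicit false
set_option maxRecDepth 100000

namespace Cfsg.Agent.TAB.Sm2.M22

open Cfsg Cfsg.Agent.TAB.Eng Cfsg.Agent.TAB.Use
open Cfsg.Agent.SporadicA.GolayBase Cfsg.Agent.SporadicA.GolayPerm
open Cfsg.Agent.SporadicStructure.M24El Cfsg.Agent.H729.Trans Cfsg.Agent.H729.MData
open scoped Pointwise

def dat : Dat where
  n := 10
  N := 443520
  ordL := [1, 2, 3, 4, 4, 5, 6, 7, 8, 11]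
  cntL := [1, 1155, 12320, 27720, 13860, 88704, 36960, 126720, 55440, 80640]
  pwL := [[], [(1, 1)], [(1, 2)], [(1, 3), (2, 1)], [(1, 4), (2, 1)], [(1, 5)], [(1, 6), (2, 2), (3, 1)], [(1, 7)], [(1, 8), (2, 4), (4, 1)], [(1, 9)]]

def v₁ : List ℤ := [24, 8, 6, 4, 4, 4, 2, 3, 2, 2]

def v₂ : List ℤ := [77, 13, 5, 1, 5, 2, 1, 0, 1, 0]

def rA : List (List ℤ) := [[1, 1, 1, 1, 1, 1, 1, 1, 1, 1],
  [21, 5, 3, 1, 1, 1, -1, 0, -1, -1],
  [55, 7, 1, -1, 3, 0, 1, -1, 1, 0],
  [99, 3, 0, -1, 3, -1, 0, 1, -1, 0],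
  [154, 10, 1, 2, -2, -1, 1, 0, 0, 0],
  [210, 2, 3, -2, -2, 0, -1, 0, 0, 1],
  [231, 7, -3, -1, -1, 1, 1, 0, -1, 0],
  [385, 1, -2, 1, 1, 0, -2, 0, 1, 0]]

def rB : List (List ℤ) := [[90, -6, 0, 2, 2, 0, 0, -1, -2, 2],
  [560, -16, 2, 0, 0, 0, 2, 0, 0, -1]]

def c2 : List Cert := [⟨0, [.one, .gen 0 1 0, .mul 0 0, .gen 1 1 0, .lin [(64, 3), (120, 2), (54, 1)], .lin [(76, 4), (16, 3), (11, 2), (68, 1)], .lin [(75, 5), (68, 4), (41, 2)], .lin [(88, 6), (55, 5)], .lin [(1, 7)]], [(0, 1), (1, 16), (2, 4), (3, 16), (4, 8)]⟩,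
  ⟨2, [.one, .gen 0 1 0, .lin [(70, 1), (95, 0)], .lin [(1, 2)]], [(0, 1), (1, 4)]⟩]

def c3 : List Cert := [⟨0, [.one, .lin [(1, 0)]], [(0, 1)]⟩,
  ⟨1, [.one, .gen 0 1 0, .lin [(1, 1), (1, 0)], .lin [(1, 2)]], [(0, 1), (1, 3)]⟩]

def c5 : List Cert := [⟨0, [.one, .lin [(1, 0)]], [(0, 1)]⟩]

def c7 : List Cert := [⟨0, [.one, .lin [(1, 0)]], [(0, 1)]⟩]

def c11 : List Cert := [⟨0, [.one, .lin [(1, 0)]], [(0, 1)]⟩]

def cert : List (ℕ × ℕ × List Cert) := [(2, 7, c2), (3, 2, c3), (5, 1, c5), (7, 1, c7), (11, 1, c11)]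

theorem h2 : Eng.chkP dat 2 7 (2 ^ 7) [v₁, v₂] c2 (rA ++ rB) = true := by decide +kernel

theorem h3 : Eng.chkP dat 3 2 (3 ^ 2) [v₁, v₂] c3 (rA ++ rB) = true := by decide +kernel

theorem h5 : Eng.chkP dat 5 1 (5 ^ 1) [v₁, v₂] c5 (rA ++ rB) = true := by decide +kernel

theorem h7 : Eng.chkP dat 7 1 (7 ^ 1) [v₁, v₂] c7 (rA ++ rB) = true := by decide +kernel

theorem h11 : Eng.chkP dat 11 1 (11 ^ 1) [v₁, v₂] c11 (rA ++ rB) = true := by decide +kernel

theorem hC : ∀ x ∈ cert, Eng.chkP dat x.1 x.2.1 (x.1 ^ x.2.1) [v₁, v₂] x.2.2 (rA ++ rB) = true := by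
  intro x hx
  simp only [cert, List.mem_cons, List.not_mem_nil, or_false] at hx
  rcases hx with rfl | rfl | rfl | rfl | rfl
  · exact h2
  · exact h3
  · exact h5
  · exact h7
  · exact h11

def cL : List ℕ := [966158389308529030942218518639679904, 971674527269832880431752993353340000,
  976721369067768948096133406861728160, 968617185868928776273660872791459424,
  963956304443641300529522121529536576, 974265648109078940214804430252913312,
  961068877354262454538544732454554656, 972301492090467176557215791638463008,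
  971068790014835402623168903417832896, 973927421301535459106453854890594400,
  968530233104700586423409967985410496]

def nL : List ℕ := [384, 36, 16, 32, 5, 12, 7, 7, 8, 11, 11]

/-- the representatives -/
abbrev cf (i : ℕ) : ℕ := cL.getD i 0

def l₂ : List ℕ := [13062145, 9347075, 11100169, 14716939, 8966165, 12656663, 10846245, 8536111, 15335473, 8663097, 9506893, 11575377, 13893731, 14254209,
  9465987, 9830549, 11010247, 12599513, 8593633, 11731203, 9748745, 9969957, 12747077, 9240913, 10506593, 14950785, 9048457, 8421811,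
  12325377, 13771273, 9519665, 8675909, 8524371, 8946281, 10666625, 8716939, 12587685, 8499969, 13124355, 10486557, 10630149, 13370381,
  10765331, 8619033, 12641313, 8983587, 10110017, 11535529, 8688833, 13636881, 8398155, 8471941, 9471495, 14747201, 8922769, 8783649,
  15747077, 9963547, 9607201, 13121601, 8505411, 10881097, 8431757, 10557585, 9193633, 8657159, 8546577, 12650793, 9112069, 12880401,
  10496547, 9440193, 9776129, 8391797, 12717187, 11046145, 8412681]

theorem l₂_eq : cwL 8 8388609 2 = l₂ := by decide +kernel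

theorem inv₂ : Inv H729.M22Deg.inc l₂ := l₂_eq ▸ inv_cwL fun g => by
  have h : fin 8388609 = {none, some 0} := by decide +kernel
  have h1 : H729.M22Deg.inc g • (none : GolayPt) = none := g.2.1.2
  have h2 : H729.M22Deg.inc g • (some 0 : GolayPt) = some 0 := g.2.2
  rw [h, Finset.smul_finset_insert, Finset.smul_finset_singleton, h1, h2]

theorem inv₁ : Inv H729.M22Deg.inc (ptL 16777215) := inv_ptL fun _ => smul_full _

theorem card_eq : Nat.card Spor.M22 = dat.N := H729.M22Deg.card_M22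

def tpL : List ℕ := [1, 2, 3, 4, 5, 6, 7, 7, 8, 9, 9]

def bxL : List (ℕ × ℕ) := [(0, 0), (0, 0), (1, 1), (2, 2), (3, 3), (4, 4), (5, 5), (6, 7), (8, 8), (9, 10)]

def prs : List (ℕ × ℕ) := [(6, 7), (9, 10)]

theorem reps : Reps H729.M22Deg.inc 11 cf (fun i => nL.getD i 0) prs :=
  reps_of_data H729.M22Deg.inc_injective H334.Ore.M22.hF H334.Ore.M22.hmem _ H334.Ore.M22Data.hC H334.Ore.M22.hA'
    H334.Ore.M22Data.hP rfl (by decide +kernel) (by decide +kernel) (by decide +kernel)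

theorem t0 : allL (fun i => tyB (ptL 16777215) l₂ dat (fun t => (nth v₁ t, nth v₂ t)) (cf i) (tpL.getD i 0))
    (List.range' 0 11) = true := by decide +kernel

theorem hT : ∀ i < 11, tyB (ptL 16777215) l₂ dat (fun t => (nth v₁ t, nth v₂ t)) (cf i) (tpL.getD i 0) = true := by
  intro i hi
  exact forall_lt_of_allL t0 i (by omega) (by omega)

/-- the type function and the table -/
theorem tab : ∃ T : TD Spor.M22 dat, T.Mass ∧ Tab T (mkRows rA rB) ∧ ∀ t ∈ ([] : List ℕ), SigConj T t := by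
  obtain ⟨T, hm, h1, h2, h3, h4⟩ := exists_T (tp := fun i => tpL.getD i 0) (bx := fun t => bxL.getD t (0, 0))
    H729.M22Deg.inc_injective inv₁ inv₂ (D := dat) card_eq (by decide +kernel) (by decide +kernel) (by decide +kernel) reps hT
    (by decide +kernel) (by decide +kernel) (by decide +kernel)
  refine ⟨T, hm, tab_of_rows hm h3 (virt_rows card_eq (fun sd hs => ?_) (by decide +kernel) hC)
    (by decide +kernel), fun t ht => ?_⟩
  · simp only [List.mem_cons, List.not_mem_nil, or_false] at hs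
    rcases hs with rfl | rfl
    · exact h1
    · exact h2
  · exact absurd ht List.not_mem_nil

theorem van : VAN.Van3 Spor.M22 := by
  obtain ⟨T, hm, h, -⟩ := tab
  exact h.van3 (inh_of_mass hm (by decide +kernel)) card_eq [(2, 7), (3, 2), (5, 1), (7, 1), (11, 1)] (by decide +kernel) 2 5 7 (by decide +kernel)

theorem all : AllRat Spor.M22 := by
  obtain ⟨T, hm, h, -⟩ := tab
  exact h.allRat (inh_of_mass hm (by decide +kernel)) [7, 9] (by decide +kernel) (by decide +kernel)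

theorem odd : OddRat Spor.M22 := fun χ hχ _ => all χ hχ

theorem sig : OddSig Spor.M22 := by
  obtain ⟨T, hm, h, h'⟩ := tab
  exact h.oddSig (inh_of_mass hm (by decide +kernel)) [(7, 0, 7, 3)] (by decide +kernel) _ h' (by decide +kernel)

theorem deg : DegList Spor.M22
    [1, 21, 55, 99, 154, 210, 231, 385, 45, 45, 280, 280] := by
  obtain ⟨T, hm, h, -⟩ := tab
  have h1 : (mkRows rA rB).deg = [1, 21, 55, 99, 154, 210, 231, 385, 45, 45, 280, 280] := by
    decide +kernel
  exact h1 ▸ h.degList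

end Cfsg.Agent.TAB.Sm2.M22
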