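import Cfsg.Agent.TAB.Sm2.Rep
import Cfsg.Agent.H334.Ore.M23

/-!
# The character table of `M23` (helper3, TAB)
-/

set_option autoImplicit false
set_option maxRecDepth 100000

namespace Cfsg.Agent.TAB.Sm2.M23

open Cfsg Cfsg.Agent.TAB.Eng Cfsg.Agent.TAB.Use
open Cfsg.Agent.SporadicA.GolayBase Cfsg.Agent.SporadicA.GolayPerm
open Cfsg.Agent.SporadicStructure.M24El Cfsg.Agent.H729.Trans Cfsg.Agent.H729.MData
open scoped Pointwise

def dat : Dat where
  n := 12
  N := 10200960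
  ordL := [1, 2, 3, 4, 5, 6, 7, 8, 11, 14, 15, 23]
  cntL := [1, 3795, 56672, 318780, 680064, 850080, 1457280, 1275120, 1854720, 1457280, 1360128, 887040]
  pwL := [[], [(1, 1)], [(1, 2)], [(1, 3), (2, 1)], [(1, 4)], [(1, 5), (2, 2), (3, 1)], [(1, 6)], [(1, 7), (2, 3), (4, 1)], [(1, 8)], [(1, 9), (2, 6), (7, 1)], [(1, 10), (3, 4), (5, 2)], [(1, 11)]]

def v₁ : List ℤ := [24, 8, 6, 4, 4, 2, 3, 2, 2, 1, 1, 1]

def v₂ : List ℤ := []

def rA : List (List ℤ) := [[1, 1, 1, 1, 1, 1, 1, 1, 1, 1, 1, 1],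
  [22, 6, 4, 2, 2, 0, 1, 0, 0, -1, -1, -1],
  [230, 22, 5, 2, 0, 1, -1, 0, -1, 1, 0, 0],
  [231, 7, 6, -1, 1, -2, 0, -1, 0, 0, 1, 1],
  [253, 13, 1, 1, -2, 1, 1, -1, 0, -1, 1, 0],
  [1035, 27, 0, -1, 0, 0, -1, 1, 1, -1, 0, 0],
  [2024, 8, -1, 0, -1, -1, 1, 0, 0, 1, -1, 0]]

def rB : List (List ℤ) := [[90, -6, 0, 2, 0, 0, -1, -2, 2, 1, 0, -2],
  [462, 14, -6, -2, 2, 2, 0, -2, 0, 0, -1, 2],
  [1540, -28, 10, -4, 0, 2, 0, 0, 0, 0, 0, -1],
  [1792, 0, -8, 0, 2, 0, 0, 0, -1, 0, 2, -2],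
  [1980, -36, 0, 4, 0, 0, -1, 0, 0, -1, 0, 2]]

def c2 : List Cert := [⟨0, [.one, .gen 0 1 0, .mul 0 0, .lin [(64, 2), (120, 1), (54, 0)], .lin [(64, 3), (77, 1)], .lin [(88, 4), (55, 3)], .lin [(1, 5)]], [(0, 1), (1, 16), (2, 16), (3, 8)]⟩,
  ⟨2, [.one, .gen 0 1 0, .lin [(70, 1), (95, 0)], .lin [(1, 2)]], [(0, 1), (1, 4)]⟩,
  ⟨6, [.one, .gen 0 1 0, .lin [(67, 1), (63, 0)], .lin [(1, 2)]], [(0, 1), (1, 2)]⟩]

def c3 : List Cert := [⟨0, [.one, .lin [(1, 0)]], [(0, 1)]⟩,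
  ⟨1, [.one, .gen 0 1 0, .lin [(1, 1), (1, 0)], .lin [(1, 2)]], [(0, 1), (1, 3)]⟩,
  ⟨4, [.one, .gen 0 1 0, .lin [(7, 1), (5, 0)], .lin [(1, 2)]], [(0, 1), (1, 3)]⟩]

def c5 : List Cert := [⟨0, [.one, .lin [(1, 0)]], [(0, 1)]⟩,
  ⟨2, [.one, .lin [(1, 0)]], [(0, 1)]⟩]

def c7 : List Cert := [⟨0, [.one, .lin [(1, 0)]], [(0, 1)]⟩,
  ⟨1, [.one, .lin [(1, 0)]], [(0, 1)]⟩]

def c11 : List Cert := [⟨0, [.one, .lin [(1, 0)]], [(0, 1)]⟩]

def c23 : List Cert := [⟨0, [.one, .lin [(1, 0)]], [(0, 1)]⟩]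

def cert : List (ℕ × ℕ × List Cert) := [(2, 7, c2), (3, 2, c3), (5, 1, c5), (7, 1, c7), (11, 1, c11), (23, 1, c23)]

theorem h2 : Eng.chkP dat 2 7 (2 ^ 7) [v₁] c2 (rA ++ rB) = true := by decide +kernel

theorem h3 : Eng.chkP dat 3 2 (3 ^ 2) [v₁] c3 (rA ++ rB) = true := by decide +kernel

theorem h5 : Eng.chkP dat 5 1 (5 ^ 1) [v₁] c5 (rA ++ rB) = true := by decide +kernel

theorem h7 : Eng.chkP dat 7 1 (7 ^ 1) [v₁] c7 (rA ++ rB) = true := by decide +kernel

theorem h11 : Eng.chkP dat 11 1 (11 ^ 1) [v₁] c11 (rA ++ rB) = true := by decide +kernel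

theorem h23 : Eng.chkP dat 23 1 (23 ^ 1) [v₁] c23 (rA ++ rB) = true := by decide +kernel

theorem hC : ∀ x ∈ cert, Eng.chkP dat x.1 x.2.1 (x.1 ^ x.2.1) [v₁] x.2.2 (rA ++ rB) = true := by
  intro x hx
  simp only [cert, List.mem_cons, List.not_mem_nil, or_false] at hx
  rcases hx with rfl | rfl | rfl | rfl | rfl | rfl
  · exact h2
  · exact h3
  · exact h5
  · exact h7
  · exact h11
  · exact h23

def cL : List ℕ := [980300456624277555258171200517441699, 963225086571282922171847167606754605,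
  969690129507075176546547461736478156, 984716542135906806873716780210567211,
  974960402297316522504383265668385292, 971066846074928915393171660241182897,
  962061302581611087296964346981714028, 979132756755844017910169606556066003,
  978069831078519570716573740216824083, 960716361430353610035354410332529868,
  976382975643422735591640723023248646, 979374823669607264849363846196199668,
  979155369683378504585279639241629221, 972833497517399943230256495216677110,
  982252470930009687161553335856700853, 967486415537473815578637697434492545]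

def nL : List ℕ := [2688, 180, 32, 15, 12, 14, 14, 8, 11, 11, 14, 14, 15, 15, 23, 23]

/-- the representatives -/
abbrev cf (i : ℕ) : ℕ := cL.getD i 0

theorem inv₁ : Inv H334.Ore.M23.inc23 (ptL 16777215) := inv_ptL fun _ => smul_full _

theorem card_eq : Nat.card Spor.M23 = dat.N := H334.Ore.M23.card_M23

def tpL : List ℕ := [1, 2, 3, 4, 5, 6, 6, 7, 8, 8, 9, 9, 10, 10, 11, 11]

def bxL : List (ℕ × ℕ) := [(0, 0), (0, 0), (1, 1), (2, 2), (3, 3), (4, 4), (5, 6), (7, 7), (8, 9), (10, 11), (12, 13), (14, 15)]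

def prs : List (ℕ × ℕ) := [(5, 6), (8, 9), (10, 11), (12, 13), (14, 15)]

theorem reps : Reps H334.Ore.M23.inc23 16 cf (fun i => nL.getD i 0) prs :=
  reps_of_data H334.Ore.M23.inc23_injective H334.Ore.M23.hF H334.Ore.M23.hmem _ H334.Ore.M23Data.hC H334.Ore.M23.hA'
    H334.Ore.M23Data.hP rfl (by decide +kernel) (by decide +kernel) (by decide +kernel)

theorem t0 : allL (fun i => tyB (ptL 16777215) [] dat (fun t => (nth v₁ t, nth v₂ t)) (cf i) (tpL.getD i 0))
    (List.range' 0 16) = true := by decide +kernel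

theorem hT : ∀ i < 16, tyB (ptL 16777215) [] dat (fun t => (nth v₁ t, nth v₂ t)) (cf i) (tpL.getD i 0) = true := by
  intro i hi
  exact forall_lt_of_allL t0 i (by omega) (by omega)

/-- the type function and the table -/
theorem tab : ∃ T : TD Spor.M23 dat, T.Mass ∧ Tab T (mkRows rA rB) ∧ ∀ t ∈ ([10] : List ℕ), SigConj T t := by
  obtain ⟨T, hm, h1, h2, h3, h4⟩ := exists_T (tp := fun i => tpL.getD i 0) (bx := fun t => bxL.getD t (0, 0))
    H334.Ore.M23.inc23_injective inv₁ inv_nil (D := dat) card_eq (by decide +kernel) (by decide +kernel) (by decide +kernel) reps hT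
    (by decide +kernel) (by decide +kernel) (by decide +kernel)
  refine ⟨T, hm, tab_of_rows hm h3 (virt_rows card_eq (fun sd hs => ?_) (by decide +kernel) hC)
    (by decide +kernel), fun t ht => ?_⟩
  · rw [List.mem_singleton.1 hs]
    exact h1
  · simp only [List.mem_cons, List.not_mem_nil, or_false] at ht
    rcases ht with rfl
    · obtain ⟨x, hx, hx', -⟩ := h4 12 (by decide) (by decide +kernel)
      obtain ⟨y, hy⟩ := H334.Ore.M23.hmem 962564473708678222308972665800178336 (by decide +kernel) (by decide +kernel)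
      exact ⟨x, 0, 15, 2, hx', by decide +kernel, isConj_pow H334.Ore.M23.inc23_injective hx hy (by decide +kernel)⟩

theorem van : VAN.Van3 Spor.M23 := by
  obtain ⟨T, hm, h, -⟩ := tab
  exact h.van3 (inh_of_mass hm (by decide +kernel)) card_eq [(2, 7), (3, 2), (5, 1), (7, 1), (11, 1), (23, 1)] (by decide +kernel) 1 4 8 (by decide +kernel)

theorem odd : OddRat Spor.M23 := by
  obtain ⟨T, hm, h, -⟩ := tab
  exact h.oddRat (inh_of_mass hm (by decide +kernel)) [6, 10] (by decide +kernel) (by decide +kernel)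

theorem sig : OddSig Spor.M23 := by
  obtain ⟨T, hm, h, h'⟩ := tab
  exact h.oddSig (inh_of_mass hm (by decide +kernel)) [(6, 0, 7, 3)] (by decide +kernel) _ h' (by decide +kernel)

theorem deg : DegList Spor.M23
    [1, 22, 230, 231, 253, 1035, 2024, 45, 45, 231, 231, 770, 770, 896, 896, 990, 990] := by
  obtain ⟨T, hm, h, -⟩ := tab
  have h1 : (mkRows rA rB).deg = [1, 22, 230, 231, 253, 1035, 2024, 45, 45, 231, 231, 770, 770, 896, 896, 990, 990] := by
    decide +kernel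
  exact h1 ▸ h.degList

end Cfsg.Agent.TAB.Sm2.M23
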