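import Cfsg.Agent.TAB.Eng.Cov
import Cfsg.Agent.TAB.Eng.Norm
import Cfsg.Agent.H334.Ore.Mat
import Cfsg.Agent.S0157

/-!
# Types of the elements of subgroups of `M24` (helper3, TAB)

* `Inv φ L` : an invariant list of subsets of the 24 points; `fxL L` : the permutation character;
* `key` : the pair of two such characters; `tyB` : the check of the type of a packed permutation;
* `Reps` : representatives with bounds of the centralizers; `exists_T` : the type function, the masses, the seeds.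
-/

set_option autoImplicit false

namespace Cfsg.Agent.TAB.Sm2

open Cfsg Cfsg.Agent.TAB.Eng
open Cfsg.Agent.SporadicA.GolayBase Cfsg.Agent.SporadicA.GolayPerm
open Cfsg.Agent.SporadicStructure.M24El Cfsg.Agent.H729.Trans Cfsg.Agent.H729.MData Cfsg.Agent.H729.Count
open Cfsg.Agent.H334.Ore.Mat (fx fc fx_pow)
open scoped Pointwise

universe u

/-- the product of two keys -/
def keyProd {G : Type u} [Group G] {α β : Type} (K : Key G α) (K' : Key G β) : Key G (α × β) where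
  P g a := K.P g a.1 ∧ K'.P g a.2
  func g _ _ ha hb := Prod.ext (K.func g _ _ ha.1 hb.1) (K'.func g _ _ ha.2 hb.2)
  conj g h _ ha := ⟨K.conj g h _ ha.1, K'.conj g h _ ha.2⟩
  gal g k _ hk ha := ⟨K.gal g k _ hk ha.1, K'.gal g k _ hk ha.2⟩

/-- the number of the fixed subsets -/
noncomputable def fxL (L : List ℕ) (g : M24) : ℕ := Nat.card {s : Finset GolayPt // maskOf s ∈ L ∧ g • s = s}

/-- the same for a packed permutation -/
noncomputable def cntF (c : ℕ) (L : List ℕ) : ℕ :=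
  List.rec 0 (fun m _ ih => cond (Nat.beq (pimg c m) m) (Nat.succ ih) ih) L

theorem cntF_eq (c : ℕ) (L : List ℕ) : cntF c L = (L.filter fun m => Nat.beq (pimg c m) m).length := by
  induction L with
  | nil => rfl
  | cons m L ih =>
    show cond (Nat.beq (pimg c m) m) (Nat.succ (cntF c L)) (cntF c L) = _
    rw [List.filter_cons, ih]
    cases Nat.beq (pimg c m) m <;> rfl

theorem fxL_el {L : List ℕ} (h1 : L.Nodup) (h2 : ∀ m ∈ L, m < 2 ^ 24) {c : ℕ} (hc : ok c = true) :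
    fxL L (el c) = cntF c L := by
  rw [cntF_eq, ← List.toFinset_card_of_nodup (h1.filter _), ← Fintype.card_coe, ← Nat.card_eq_fintype_card]
  have hp : ∀ m, pimg c m < 2 ^ 24 := pimg_lt (ok_iff.1 hc).1
  refine Nat.card_congr ⟨fun s => ⟨maskOf s.1, ?_⟩, fun m => ⟨fin m.1, ?_⟩, fun s => Subtype.ext (fin_maskOf _),
    fun m => Subtype.ext (maskOf_fin (h2 _ (List.mem_filter.1 (List.mem_toFinset.1 m.2)).1))⟩
  · rw [List.mem_toFinset, List.mem_filter]
    refine ⟨s.2.1, ?_⟩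
    have h3 := s.2.2
    rw [← fin_maskOf s.1, el_smul_fin hc] at h3
    rw [fin_injective (hp _) (maskOf_lt _) h3]
    exact Nat.beq_refl _
  · have h3 := List.mem_filter.1 (List.mem_toFinset.1 m.2)
    rw [maskOf_fin (h2 _ h3.1), el_smul_fin hc, Nat.eq_of_beq_eq_true h3.2]
    exact ⟨h3.1, rfl⟩

theorem fxL_one {L : List ℕ} (h1 : L.Nodup) (h2 : ∀ m ∈ L, m < 2 ^ 24) : fxL L 1 = L.length := by
  rw [← List.toFinset_card_of_nodup h1, ← Fintype.card_coe, ← Nat.card_eq_fintype_card]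
  refine Nat.card_congr ⟨fun s => ⟨maskOf s.1, List.mem_toFinset.2 s.2.1⟩, fun m => ⟨fin m.1, ?_, one_smul _ _⟩,
    fun s => Subtype.ext (fin_maskOf _), fun m => Subtype.ext (maskOf_fin (h2 _ (List.mem_toFinset.1 m.2)))⟩
  rw [maskOf_fin (h2 _ (List.mem_toFinset.1 m.2))]
  exact List.mem_toFinset.1 m.2

variable {G : Type u} [Group G]

/-- an invariant list of subsets -/
structure Inv (φ : G →* M24) (L : List ℕ) : Prop where
  nd : L.Nodup
  lt : ∀ m ∈ L, m < 2 ^ 24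
  mem : ∀ (g : G) (s : Finset GolayPt), maskOf s ∈ L → maskOf (φ g • s) ∈ L

variable {φ : G →* M24}

/-- the action on the list -/
@[reducible] noncomputable def Inv.act {L : List ℕ} (h : Inv φ L) : MulAction G {s : Finset GolayPt // maskOf s ∈ L} where
  smul g s := ⟨φ g • s.1, h.mem g s.1 s.2⟩
  one_smul s := Subtype.ext (show φ 1 • s.1 = s.1 by rw [map_one, one_smul])
  mul_smul a b s := Subtype.ext (show φ (a * b) • s.1 = φ a • φ b • s.1 by rw [map_mul, mul_smul])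

theorem Inv.isChar {L : List ℕ} (h : Inv φ L) : IsCharacter G fun g => (((fxL L (φ g) : ℕ) : ℚ) : ℂ) := by
  let _ := h.act
  have h1 := S0157.isCharacter_fixedBy (G := G) {s : Finset GolayPt // maskOf s ∈ L}
  convert h1 using 2 with g
  rw [Rat.cast_natCast]
  congr 1
  exact Nat.card_congr ⟨fun s => ⟨⟨s.1, s.2.1⟩, Subtype.ext s.2.2⟩, fun s => ⟨s.1.1, s.1.2, congrArg Subtype.val s.2⟩,
    fun _ => rfl, fun _ => rfl⟩

theorem inv_nil : Inv φ [] := ⟨List.nodup_nil, fun _ h => absurd h List.not_mem_nil, fun _ _ h => absurd h List.not_mem_nil⟩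

/-- the points of the set `S` -/
def ptL (S : ℕ) : List ℕ := ((List.range 24).filter fun i => S.testBit i).map fun i => 2 ^ i

theorem mem_ptL {S : ℕ} {s : Finset GolayPt} : maskOf s ∈ ptL S ↔ ∃ p ∈ fin S, s = {p} := by
  have key : ∀ p : GolayPt, maskOf {p} = 2 ^ idx p := fun p =>
    eq_of_testBit_idx (maskOf_lt _) (Nat.pow_lt_pow_right (by norm_num) (idx_lt p)) fun q => by
      rw [testBit_maskOf, Nat.testBit_two_pow]
      by_cases h : q = p
      · simp [h]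
      · rw [decide_eq_false (by simpa using h), decide_eq_false fun h' => h (idx_injective h').symm]
  rw [ptL, List.mem_map]
  constructor
  · rintro ⟨i, hi, h⟩
    rw [List.mem_filter, List.mem_range] at hi
    refine ⟨pt i, by rw [mem_fin, idx_pt hi.1]; exact hi.2, maskOf_injective ?_⟩
    rw [key, idx_pt hi.1, h]
  · rintro ⟨p, hp, rfl⟩
    exact ⟨idx p, List.mem_filter.2 ⟨List.mem_range.2 (idx_lt p), mem_fin.1 hp⟩, (key p).symm⟩

theorem inv_ptL {S : ℕ} (h : ∀ g : G, φ g • fin S = fin S) : Inv φ (ptL S) := by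
  refine ⟨(List.nodup_range.filter _).map (Nat.pow_right_injective le_rfl), fun m hm => ?_, fun g s hs => ?_⟩
  · obtain ⟨i, hi, rfl⟩ := List.mem_map.1 hm
    exact Nat.pow_lt_pow_right (by norm_num) (List.mem_range.1 (List.mem_filter.1 hi).1)
  · obtain ⟨p, hp, rfl⟩ := mem_ptL.1 hs
    refine mem_ptL.2 ⟨φ g • p, ?_, Finset.smul_finset_singleton _⟩
    rw [← h g]
    exact Finset.smul_mem_smul_finset hp

/-- the code words of weight `w` which meet `S` in `k` points -/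
def cwL (w S k : ℕ) : List ℕ :=
  ((List.range 4096).map enc).filter fun m => Nat.beq (popcount m) w && Nat.beq (popcount (m &&& S)) k

theorem mem_cwL {w S k m : ℕ} : m ∈ cwL w S k ↔ isCode m = true ∧ popcount m = w ∧ popcount (m &&& S) = k := by
  rw [cwL, List.mem_filter, isCode_iff_exists, List.mem_map, Bool.and_eq_true, Nat.beq_eq, Nat.beq_eq]
  refine and_congr_left fun _ => ⟨?_, ?_⟩
  · rintro ⟨i, hi, rfl⟩
    exact ⟨i, List.mem_range.1 hi, rfl⟩
  · rintro ⟨i, hi, rfl⟩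
    exact ⟨i, List.mem_range.2 hi, rfl⟩

theorem inv_cwL {w S k : ℕ} (h : ∀ g : G, φ g • fin S = fin S) : Inv φ (cwL w S k) := by
  refine ⟨(List.nodup_range.map_on fun i hi j hj => enc_injOn (List.mem_range.1 hi) (List.mem_range.1 hj)).filter _,
    fun m hm => isCode_lt (mem_cwL.1 hm).1, fun g s hs => ?_⟩
  obtain ⟨h1, h2, h3⟩ := mem_cwL.1 hs
  refine mem_cwL.2 ⟨?_, ?_, ?_⟩
  · rw [← mem_supports_iff] at h1 ⊢
    exact (smul_mem_supports (φ g).2).2 h1
  · rw [← card_eq_popcount] at h2 ⊢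
    rw [Finset.card_smul_finset, h2]
  · rw [← card_fin, fin_and, fin_maskOf] at h3 ⊢
    rw [← h g, ← Finset.smul_finset_inter, Finset.card_smul_finset, h3]

variable [Finite G]

/-- the key -/
noncomputable def key {L₁ L₂ : List ℕ} (h₁ : Inv φ L₁) (h₂ : Inv φ L₂) : Key G (ℤ × ℤ) :=
  keyProd (Key.ofChar h₁.isChar _ fun _ => rfl) (Key.ofChar h₂.isChar _ fun _ => rfl)

/-- the check of the type of a packed permutation -/
noncomputable def tyB (L₁ L₂ : List ℕ) (D : Dat) (val : ℕ → ℤ × ℤ) (c t : ℕ) : Bool :=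
  ok c && Nat.ble 1 (D.ord t) && Nat.beq (ppow c (D.ord t)) idP &&
    allL (fun k => !(Nat.beq (fc c k) 24)) (List.range' 1 (D.ord t - 1)) &&
    allL (fun p => frc (ppow c p.1) fun q =>
      decide (Int.ofNat (cntF q L₁) = (val p.2).1) && decide (Int.ofNat (cntF q L₂) = (val p.2).2)) (D.pw t)

theorem fx_one : fx 1 = 24 := by
  have h := fx_pow ok_idP 0
  rw [pow_zero] at h
  rw [h]
  decide +kernel

theorem ty_of_chk (hφ : Function.Injective φ) {L₁ L₂ : List ℕ} (h₁ : Inv φ L₁) (h₂ : Inv φ L₂) {D : Dat}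
    {val : ℕ → ℤ × ℤ} {c t : ℕ} (h : tyB L₁ L₂ D val c t = true) {x : G} (hx : φ x = el c) :
    Ty (key h₁ h₂) D val t x := by
  simp only [tyB, Bool.and_eq_true] at h
  obtain ⟨⟨⟨⟨hc, h1⟩, h2⟩, h3⟩, h4⟩ := h
  have h5 : 0 < D.ord t := Nat.le_of_ble_eq_true h1
  refine ⟨(orderOf_eq_iff h5).2 ⟨hφ ?_, fun m hm hm0 h6 => ?_⟩, fun p hp => ?_⟩
  · rw [map_pow, hx, ← el_ppow hc, Nat.eq_of_beq_eq_true h2, el_idP, map_one]
  · have h7 := allL_spec h3 m (List.mem_range'_1.2 ⟨hm0, by omega⟩)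
    rw [← fx_pow hc, ← hx, ← map_pow, h6, map_one, fx_one] at h7
    cases h7
  · have h7 := allL_spec h4 p hp
    rw [frc_eq, Bool.and_eq_true, decide_eq_true_eq, decide_eq_true_eq] at h7
    have h8 : φ (x ^ p.1) = el (ppow c p.1) := by rw [map_pow, hx, el_ppow hc]
    constructor
    · show ((fxL L₁ (φ (x ^ p.1)) : ℕ) : ℚ) = ((val p.2).1 : ℚ)
      rw [h8, fxL_el h₁.nd h₁.lt (ok_ppow hc _), ← h7.1]
      rfl
    · show ((fxL L₂ (φ (x ^ p.1)) : ℕ) : ℚ) = ((val p.2).2 : ℚ)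
      rw [h8, fxL_el h₂.nd h₂.lt (ok_ppow hc _), ← h7.2]
      rfl

/-- representatives `c i` with centralizers of order at most `n i`, not conjugate to each other in the pairs `P` -/
def Reps (φ : G →* M24) (k : ℕ) (c n : ℕ → ℕ) (P : List (ℕ × ℕ)) : Prop :=
  ∃ x : ℕ → G, (∀ i < k, φ (x i) = el (c i) ∧ Nat.card (Subgroup.centralizer ({x i} : Set G)) ≤ n i) ∧
    ∀ p ∈ P, ¬ IsConj (x p.1) (x p.2)

/-- the check of the boxes: `bx t` is the pair of the representatives of the type `t` -/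
def boxB (D : Dat) (k : ℕ) (n tp : ℕ → ℕ) (P : List (ℕ × ℕ)) (bx : ℕ → ℕ × ℕ) : Bool :=
  D.ord 0 == 1 && D.pw 0 == [] && D.cnt 0 == 1 &&
  (List.range' 1 (D.n - 1)).all fun t => decide ((bx t).1 < k) && tp (bx t).1 == t && decide ((1, t) ∈ D.pw t) &&
    (decide (D.cnt t * n (bx t).1 ≤ D.N) || (decide ((bx t).2 < k) && tp (bx t).2 == t && decide (bx t ∈ P) &&
      decide (D.cnt t ≤ D.N / n (bx t).1 + D.N / n (bx t).2)))

/-- **the type function, the masses and the two seeds** -/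
theorem exists_T (hφ : Function.Injective φ) {L₁ L₂ : List ℕ} (h₁ : Inv φ L₁) (h₂ : Inv φ L₂) {D : Dat}
    {v₁ v₂ : List ℤ} (hN : Nat.card G = D.N) (hD₁ : D.okPow = true)
    (hD₂ : D.okSep (fun t => (nth v₁ t, nth v₂ t)) = true) (hD₃ : D.okSum = true)
    {k : ℕ} {c n tp : ℕ → ℕ} {P : List (ℕ × ℕ)} {bx : ℕ → ℕ × ℕ} (hR : Reps φ k c n P)
    (hT : ∀ i < k, tyB L₁ L₂ D (fun t => (nth v₁ t, nth v₂ t)) (c i) (tp i) = true)
    (hB : boxB D k n tp P bx = true) (hv₁ : nth v₁ 0 = L₁.length) (hv₂ : nth v₂ 0 = L₂.length) :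
    ∃ T : TD G D, T.Mass ∧ Virt T (nth v₁) ∧ Virt T (nth v₂) ∧ T.ty 1 = 0 ∧
      ∀ i < k, tp i < D.n → ∃ x : G, φ x = el (c i) ∧ T.ty x = tp i ∧
        Nat.card (Subgroup.centralizer ({x} : Set G)) ≤ n i := by
  obtain ⟨x, hx, hP⟩ := hR
  simp only [boxB, Bool.and_eq_true, beq_iff_eq, List.all_eq_true, decide_eq_true_eq, Bool.or_eq_true] at hB
  obtain ⟨⟨⟨h1, h2⟩, h3⟩, h4⟩ := hB
  have hty : ∀ i < k, Ty (key h₁ h₂) D (fun t => (nth v₁ t, nth v₂ t)) (tp i) (x i) := fun i hi =>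
    ty_of_chk hφ h₁ h₂ (hT i hi) (hx i hi).1
  have h0 : Ty (key h₁ h₂) D (fun t => (nth v₁ t, nth v₂ t)) 0 1 :=
    ⟨by rw [orderOf_one, h1], by rw [h2]; exact fun p hp => absurd hp List.not_mem_nil⟩
  obtain ⟨T, hm, hT⟩ := exists_td (K := key h₁ h₂) hD₁ hD₂ hD₃ hN fun t ht => by
    rcases Nat.eq_zero_or_pos t with rfl | ht0
    · exact (BoxC.of_le h0 (Subgroup.card_le_card_group _) (by rw [h3, one_mul])).box
    · obtain ⟨⟨⟨h5, h6⟩, -⟩, h7⟩ := h4 t (List.mem_range'_1.2 ⟨ht0, by omega⟩)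
      have h11 := hty _ h5
      rw [h6] at h11
      rcases h7 with h7 | ⟨⟨⟨h7, h8⟩, h9⟩, h10⟩
      · exact (BoxC.of_le h11 (hx _ h5).2 (hN ▸ h7)).box
      · have h12 := hty _ h7
        rw [h8] at h12
        exact Box.of_two h11 h12 (hP _ h9) (hx _ h5).2 (hx _ h7).2 (hN ▸ h10)
  have key' : ∀ g : G, ((fxL L₁ (φ g) : ℕ) : ℚ) = (nth v₁ (T.ty g) : ℚ) ∧
      ((fxL L₂ (φ g) : ℕ) : ℚ) = (nth v₂ (T.ty g) : ℚ) := fun g => by
    have h5 := (hT g _ (T.lt g)).1 rfl
    rcases Nat.eq_zero_or_pos (T.ty g) with h6 | h6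
    · have h7 := h5.1
      rw [h6, h1, orderOf_eq_one_iff] at h7
      rw [h6, h7, map_one, fxL_one h₁.nd h₁.lt, fxL_one h₂.nd h₂.lt, hv₁, hv₂]
      exact ⟨rfl, rfl⟩
    · have h7 := T.lt g
      have h8 := h5.2 _ (h4 _ (List.mem_range'_1.2 ⟨h6, by omega⟩)).1.2
      rw [pow_one] at h8
      exact h8
  refine ⟨T, hm, ?_, ?_, (hT 1 0 (Nat.zero_lt_of_lt (T.lt 1))).2 h0,
    fun i hi hi' => ⟨x i, (hx i hi).1, (hT _ _ hi').2 (hty i hi), (hx i hi).2⟩⟩
  · have h5 := Characters.Brauer.isGeneralizedCharacter_of_isCharacter h₁.isChar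
    simp only [fun g => (key' g).1, Rat.cast_intCast] at h5
    exact h5
  · have h5 := Characters.Brauer.isGeneralizedCharacter_of_isCharacter h₂.isChar
    simp only [fun g => (key' g).2, Rat.cast_intCast] at h5
    exact h5

end Cfsg.Agent.TAB.Sm2
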