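import Cfsg.Agent.TAB.Sm2.Mat
import Cfsg.Agent.TAB.Sm2.Fin

/-!
# Representatives with bounds of the centralizers in subgroups of `M24` (helper3, TAB)

* `reps_of_data` : from the class lists of `H334.Ore`;
* `reps_of_srch` : by searches in the stabiliser of the subsets `Ss`;
* `virt_rows` : the rows are virtual by local certificates.
-/

set_option autoImplicit false

namespace Cfsg.Agent.TAB.Sm2

open Cfsg Cfsg.Agent.TAB.Eng
open Cfsg.Agent.SporadicA.GolayBase Cfsg.Agent.SporadicA.GolayPerm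
open Cfsg.Agent.SporadicStructure.M24El Cfsg.Agent.H729.Trans Cfsg.Agent.H729.MData Cfsg.Agent.H729.Count
open Cfsg.Agent.H334.Ore.Mat
open scoped Pointwise

universe u

variable {G : Type u} [Group G] [Finite G] {φ : G →* M24}

theorem reps_of_data (hφ : Function.Injective φ) {F : List ℕ} (hF : ∀ g : G, ∀ b ∈ F, im (φ g) b = b)
    (hmem : ∀ c : ℕ, ok c = true → (∀ b ∈ F, papp c b = b) → ∃ x : G, φ x = el c) (D : List Rec)
    (hC : ∀ r ∈ D, chkC F r = true) (hA : ∀ r ∈ D, chkA F r = true)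
    (hP : ∀ i j : Fin D.length, i < j → chkP F (D.get i) (D.get j) = true) {cL nL : List ℕ} {k : ℕ}
    (hk : D.length = k) (hc : D.map Rec.c = cL) (hn : D.map Rec.n = nL) {P : List (ℕ × ℕ)}
    (hP' : ∀ p ∈ P, p.1 < p.2 ∧ p.2 < k) : Reps φ k (fun i => cL.getD i 0) (fun i => nL.getD i 0) P := by
  subst hk hc hn
  have hA' : ∀ r ∈ D, ok r.c = true ∧ ∀ x ∈ F, papp r.c x = x := fun r hr => by
    have h := hA r hr
    unfold chkA at h
    rw [Bool.and_eq_true] at h
    exact inG_iff h.1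
  have hex : ∀ i : ℕ, ∃ x : G, ∀ hi : i < D.length, φ x = el D[i].c := fun i => by
    by_cases hi : i < D.length
    · obtain ⟨x, hx⟩ := hmem _ (hA' _ (List.getElem_mem hi)).1 (hA' _ (List.getElem_mem hi)).2
      exact ⟨x, fun _ => hx⟩
    · exact ⟨1, fun h => absurd h hi⟩
  choose x hx using hex
  refine ⟨x, fun i hi => ?_, fun p hp => ?_⟩
  · beta_reduce
    rw [List.getD_eq_getElem _ _ (by simpa using hi), List.getD_eq_getElem _ _ (by simpa using hi),
      List.getElem_map, List.getElem_map]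
    exact ⟨hx i hi, H334.Ore.Mat.card_cent_le hφ hF (hC _ (List.getElem_mem hi)) (hx i hi)⟩
  · obtain ⟨h1, h2⟩ := hP' p hp
    exact not_isConj hF (hA' _ (List.getElem_mem (h1.trans h2))).1 (hA' _ (List.getElem_mem h2)).1
      (hP ⟨p.1, h1.trans h2⟩ ⟨p.2, h2⟩ h1) (hx _ _) (hx _ _)

/-- the candidates for the image of the point `b` -/
def cand (Ss : List ℕ) (b : ℕ) : List ℕ :=
  (List.range 24).filter fun i => Ss.all fun S => S.testBit i == S.testBit b

/-- the other points -/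
def excl (Ss : List ℕ) (b : ℕ) : List ℕ :=
  (List.range 24).filter fun i => !Ss.all fun S => S.testBit i == S.testBit b

omit [Finite G] in
theorem im_all {Ss : List ℕ} (h : ∀ S ∈ Ss, ∀ g : G, φ g • fin S = fin S) (g : G) {b : ℕ} (hb : b < 24) :
    (Ss.all fun S => S.testBit (im (φ g) b) == S.testBit b) = true := by
  refine List.all_eq_true.2 fun S hS => ?_
  rw [beq_iff_eq, Bool.eq_iff_iff]
  have h1 : φ g • pt b ∈ φ g • fin S ↔ pt b ∈ fin S := Finset.smul_mem_smul_finset_iff _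
  rw [h S hS g, mem_fin, mem_fin, idx_pt hb] at h1
  exact h1

/-- the data of a class -/
structure Rc where
  p : ℕ
  c : ℕ
  wd : List (ℕ × ℕ)
  sts : List (ℕ × List ℕ × List (List (ℕ × ℕ)))
  bs : List ℕ
  n : ℕ

/-- the product of the numbers of candidates -/
def fibN (Ss : List ℕ) (p c : ℕ) : List ℕ → List ℕ → ℕ
  | _, [] => 1
  | L, b :: bs => (cA p c L b (excl Ss b)).length * fibN Ss p c (b :: L) bs

theorem fibN_realised : True := by have := @fibN.eq_def; trivial

/-- the points are admissible -/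
def fibB (Ss : List ℕ) (p c : ℕ) : List ℕ → List ℕ → Bool
  | _, [] => true
  | L, b :: bs => decide (b ∈ cA p c L b (excl Ss b)) && fibB Ss p c (b :: L) bs

theorem fibB_realised : True := by have := @fibB.eq_def; trivial

/-- the candidate lists -/
def stB (Ss L : List ℕ) (sts : List (ℕ × List ℕ × List (List (ℕ × ℕ)))) : Bool :=
  sts.all fun st => decide (st.1 < 24) && (decide (st.2.1 = cand Ss st.1) || (decide (st.2.1 = [st.1]) && decide (st.1 ∈ L)))

/-- the check of a class -/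
def chkR (Ss : List ℕ) (r : Rc) : Bool :=
  pre r.p r.c r.wd r.sts && (Ss.all fun S => pimg r.c S == S) && stB Ss r.bs r.sts && fibB Ss r.p r.c [] r.bs &&
    Nat.ble (fibN Ss r.p r.c [] r.bs * (tl r.p r.c r.c r.wd r.sts).length) r.n

/-- the check of two different classes -/
def chkQ (Ss : List ℕ) (r s : Rc) (wd : List (ℕ × ℕ)) (sts : List (ℕ × List ℕ × List (List (ℕ × ℕ)))) : Bool :=
  pre r.p r.c wd sts && ok s.c && stB Ss [] sts && (tl r.p r.c s.c wd sts).isEmpty

omit [Finite G] in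
theorem st_mem' {Ss L : List ℕ} (h : ∀ S ∈ Ss, ∀ g : G, φ g • fin S = fin S)
    {sts : List (ℕ × List ℕ × List (List (ℕ × ℕ)))} (hs : stB Ss L sts = true) {g : G}
    (hg : ∀ b ∈ L, b < 24 → im (φ g) b = b) : ∀ st ∈ sts, im (φ g) st.1 ∈ st.2.1 := by
  intro st hst
  have h1 := List.all_eq_true.1 hs st hst
  simp only [Bool.and_eq_true, decide_eq_true_eq, Bool.or_eq_true] at h1
  obtain ⟨h2, h1 | ⟨h1, h3⟩⟩ := h1
  · rw [h1]
    exact List.mem_filter.2 ⟨List.mem_range.2 (im_lt _ _), im_all h g h2⟩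
  · rw [h1, hg _ h3 h2]
    exact List.mem_singleton.2 rfl

theorem card_fib' {Ss : List ℕ} (h : ∀ S ∈ Ss, ∀ g : G, φ g • fin S = fin S) {x : G} {p c : ℕ} (hc : ok c = true)
    (hx : φ x = el c) : ∀ (bs L : List ℕ), fibB Ss p c L bs = true →
    Nat.card (Hs φ x L) ≤ fibN Ss p c L bs * Nat.card (Hs φ x (bs.reverse ++ L)) := by
  intro bs
  induction bs with
  | nil => intro L _; exact (one_mul _).ge
  | cons b bs ih =>
    intro L hb
    rw [fibB, Bool.and_eq_true, decide_eq_true_iff] at hb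
    have h1 := card_step φ hc hx hb.1 fun i hi g _ h2 => by
      have h3 := (List.mem_filter.1 hi).2
      rw [← h2, im_all h g (mem_cA hb.1).1] at h3
      cases h3
    rw [fibN, mul_assoc, List.reverse_cons, List.append_assoc]
    exact h1.trans (Nat.mul_le_mul_left _ (ih _ hb.2))

theorem cent_of_chkR (hφ : Function.Injective φ) {Ss : List ℕ} (h : ∀ S ∈ Ss, ∀ g : G, φ g • fin S = fin S) {r : Rc}
    (hr : chkR Ss r = true) {x : G} (hx : φ x = el r.c) :
    Nat.card (Subgroup.centralizer ({x} : Set G)) ≤ r.n := by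
  classical
  simp only [chkR, Bool.and_eq_true, Nat.ble_eq] at hr
  obtain ⟨⟨⟨⟨h1, -⟩, h2⟩, h3⟩, h4⟩ := hr
  have hc := ok_of_pre h1
  have h6 : Subgroup.centralizer ({x} : Set G) = Hs φ x [] := by
    ext g
    rw [Subgroup.mem_centralizer_singleton_iff]
    exact ⟨fun h => ⟨h, fun b hb => absurd hb List.not_mem_nil⟩, fun h => h.1⟩
  rw [h6]
  refine (card_fib' h hc hx r.bs [] h3).trans (le_trans (Nat.mul_le_mul_left _ ?_) h4)
  have key : ∀ z : Hs φ x (r.bs.reverse ++ []),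
      packOf (φ z.1 : Equiv.Perm GolayPt) ∈ (tl r.p r.c r.c r.wd r.sts).toFinset := by
    rintro ⟨z, hz1, hz2⟩
    rw [List.mem_toFinset]
    refine packOf_mem_tl h1 hc (φ z) ?_ (st_mem' h h2 fun b hb => hz2 b ?_)
    · rw [← hx, ← map_mul, ← map_mul, hz1]
    · rwa [List.append_nil, List.mem_reverse]
  generalize tl r.p r.c r.c r.wd r.sts = T at key ⊢
  have h7 : Nat.card (Hs φ x (r.bs.reverse ++ [])) ≤ Nat.card T.toFinset := by
    refine Nat.card_le_card_of_injective (fun z => ⟨_, key z⟩) ?_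
    intro a b hab
    have h8 := congrArg Subtype.val hab
    exact Subtype.ext (hφ (packOf_inj h8))
  refine h7.trans ?_
  rw [Nat.card_eq_fintype_card, Fintype.card_coe]
  exact List.toFinset_card_le T

omit [Finite G] in
theorem not_conj_of_chkQ {Ss : List ℕ} (h : ∀ S ∈ Ss, ∀ g : G, φ g • fin S = fin S) {r s : Rc} {wd : List (ℕ × ℕ)}
    {sts : List (ℕ × List ℕ × List (List (ℕ × ℕ)))} (hr : chkQ Ss r s wd sts = true) {x y : G} (hx : φ x = el r.c)
    (hy : φ y = el s.c) : ¬ IsConj x y := by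
  intro hxy
  simp only [chkQ, Bool.and_eq_true, List.isEmpty_iff] at hr
  obtain ⟨⟨⟨h1, h2⟩, h3⟩, h4⟩ := hr
  obtain ⟨g, hg⟩ := isConj_iff.1 hxy
  have h5 := packOf_mem_tl h1 h2 (φ g) (by
    rw [← hx, ← hy, ← hg, ← map_mul, ← map_mul, inv_mul_cancel_right])
    (st_mem' h h3 fun b hb => absurd hb List.not_mem_nil)
  rw [h4] at h5
  exact List.not_mem_nil h5

theorem reps_of_srch (hφ : Function.Injective φ) {Ss : List ℕ} (h : ∀ S ∈ Ss, ∀ g : G, φ g • fin S = fin S)
    (hmem : ∀ y : M24, (∀ S ∈ Ss, y • fin S = fin S) → ∃ x : G, φ x = y) (D : ℕ → Rc) {k : ℕ}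
    (hC : ∀ i < k, chkR Ss (D i) = true) {P : List (ℕ × ℕ)}
    (hP : ∀ p ∈ P, p.1 < k ∧ p.2 < k ∧ ∃ wd sts, chkQ Ss (D p.1) (D p.2) wd sts = true) :
    Reps φ k (fun i => (D i).c) (fun i => (D i).n) P := by
  have hex : ∀ i : ℕ, ∃ x : G, i < k → φ x = el (D i).c := fun i => by
    by_cases hi : i < k
    · have h1 := hC i hi
      simp only [chkR, Bool.and_eq_true, List.all_eq_true, beq_iff_eq] at h1
      obtain ⟨x, hx⟩ := hmem (el (D i).c) fun S hS => by
        rw [el_smul_fin (ok_of_pre h1.1.1.1.1), h1.1.1.1.2 S hS]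
      exact ⟨x, fun _ => hx⟩
    · exact ⟨1, fun h => absurd h hi⟩
  choose x hx using hex
  refine ⟨x, fun i hi => ⟨hx i hi, cent_of_chkR hφ h (hC i hi) (hx i hi)⟩, fun p hp => ?_⟩
  obtain ⟨h1, h2, wd, sts, h3⟩ := hP p hp
  exact not_conj_of_chkQ h h3 (hx _ h1) (hx _ h2)

omit [Finite G] in
theorem isConj_pow (hφ : Function.Injective φ) {x y : G} {c d k : ℕ} (hx : φ x = el c) (hy : φ y = el d)
    (h : (ok c && ok d && Nat.beq (pcomp d c) (pcomp (ppow c k) d)) = true) : IsConj x (x ^ k) := by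
  simp only [Bool.and_eq_true, Nat.beq_eq] at h
  obtain ⟨⟨h1, h2⟩, h3⟩ := h
  refine isConj_iff.2 ⟨y, ?_⟩
  rw [mul_inv_eq_iff_eq_mul]
  apply hφ
  rw [map_mul, map_mul, map_pow, hx, hy, ← el_ppow h1, ← el_pcomp h2 h1, ← el_pcomp (ok_ppow h1 k) h2, h3]

omit [Finite G] in
theorem smul_full (g : M24) : g • fin 16777215 = fin 16777215 := by
  have h : fin 16777215 = Finset.univ := by decide +kernel
  rw [h, Finset.smul_finset_univ]

theorem smul_zero' (g : M24) : g • fin 0 = fin 0 := by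
  have h : fin 0 = ∅ := by decide +kernel
  rw [h, Finset.smul_finset_empty]

theorem forall_lt_of_allL {f : ℕ → Bool} {a n : ℕ} (h : allL f (List.range' a n) = true) :
    ∀ i, a ≤ i → i < a + n → f i = true := fun i h1 h2 => allL_spec h i (List.mem_range'_1.2 ⟨h1, h2⟩)

/-- the list of primes of a list of certificates -/
def plOf (C : List (ℕ × ℕ × List Cert)) : List (ℕ × ℕ × List ℕ) := C.map fun x => (x.1, x.2.1, x.2.2.map Cert.s)

/-- **the rows are virtual** -/
theorem virt_rows {G : Type u} [Group G] [Finite G] {D : Dat} {T : TD G D} (hN : Nat.card G = D.N)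
    {seeds rows : List (List ℤ)} (hs : ∀ sd ∈ seeds, Virt T (nth sd)) {C : List (ℕ × ℕ × List Cert)}
    (hP : okPrimes D (plOf C) = true)
    (hC : ∀ x ∈ C, Eng.chkP D x.1 x.2.1 (x.1 ^ x.2.1) seeds x.2.2 rows = true) : ∀ r ∈ rows, Virt T (nth r) := by
  intro r hr
  refine virt_of_good hN hP fun x hx s hs' => ?_
  obtain ⟨y, hy, rfl⟩ := List.mem_map.1 hx
  exact good_of_chkP hN (hC y hy) hs s hs' r hr

end Cfsg.Agent.TAB.Sm2
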