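import Cfsg.Agent.TAB.Sm2.TitsEng

/-!
# The classes of the Tits group under `²F₄(2)`: centralizers and fixed points (helper3, TAB)
-/

set_option autoImplicit false
set_option maxRecDepth 100000

namespace Cfsg.Agent.TAB.Sm2.Tits

open Cfsg.Agent.SporadicB.RuOrder

/-- the `k`-th power of a word -/
noncomputable def pwW (w : List ℕ) (k : ℕ) : List ℕ := Nat.rec [] (fun _ ih => w ++ ih) k

theorem wv_pwW (w : List ℕ) : ∀ k, wv (pwW w k) = wv w ^ k
  | 0 => rfl
  | k + 1 => by rw [pow_succ', ← wv_pwW w k, ← wv_append]; rfl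

/-- the base words -/
def bw : List (List ℕ) := [[0], [0, 0, 0, 2], [0, 0, 2], [0, 2, 2], [0, 0, 0, 2, 2]]

/-- the representatives as powers of the base words -/
def rp : List (ℕ × ℕ) := [(0, 0), (1, 8), (3, 4), (4, 4), (4, 3), (3, 2), (1, 4), (2, 2), (4, 2), (1, 2), (3, 1), (2, 1), (4, 1), (0, 1), (1, 1), (4, 6), (2, 5)]

/-- the words of the representatives -/
noncomputable def rW (t : ℕ) : List ℕ := pwW (bw.getD (rp.getD t (0, 0)).1 []) (rp.getD t (0, 0)).2

theorem cC1 : chkC (rW 1) [
  .fix 1, .cell [(true, 2), (true, 0)], .cnt 0 [26, 35, 43, 44, 90], .base 1 1 2, .cell [(true, 2), (true, 1)],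
  .base 0 158 1, .cell [(true, 1), (true, 0)], .cnt 0 [2], .cell [(true, 8), (true, 2), (true, 5), (true, 4)],
  .cnt 0 [0, 4, 6, 8, 16], .cell [(true, 13), (true, 8), (false, 11), (false, 10), (true, 0)], .cnt 0 [0],
  .cell [(true, 17), (true, 13), (false, 10), (false, 12), (true, 5), (true, 0)], .base 0 1123 2,
  .cell [(true, 9), (true, 21), (true, 1)], .pt 0 2936 1,
  .cell [(true, 10), (true, 22), (true, 5), (true, 2), (true, 18), (true, 15)], .pt 0 1234 2,
  .cell [(true, 13), (true, 25), (true, 6), (true, 5), (true, 21), (true, 20), (true, 3), (true, 1)], .pt 0 2597 1,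
  .cell [(true, 28), (true, 15), (true, 8), (false, 3), (true, 0)], .pt 0 313 1,
  .cell [(true, 30), (true, 17), (false, 10), (true, 5), (true, 2)], .pt 0 3323 1,
  .cell [(true, 32), (true, 12), (true, 14), (true, 27), (true, 7), (true, 4)], .pt 0 3335 1,
  .cell [(true, 20), (true, 31), (true, 29), (false, 13), (true, 26), (false, 14), (true, 9), (true, 8), (false, 4)],
  .cell [(true, 33), (true, 17), (true, 30), (true, 14), (false, 15), (false, 12), (true, 1)],
  .cell [(true, 33), (true, 31), (true, 16), (true, 15), (true, 21), (false, 30), (true, 26), (false, 13), (true, 4)],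
  .fin 2 1 0] 20479 = true := by decide +kernel

theorem cC2 : chkC (rW 2) [
  .fix 1, .cell [(false, 2), (true, 0), (false, 1)], .base 0 19 1, .cell [(true, 2), (true, 4), (true, 0)],
  .base 0 190 1, .cell [(true, 1), (true, 0)], .cnt 0 [3, 4, 5, 11],
  .cell [(true, 11), (true, 5), (true, 7), (true, 1)], .cnt 0 [44, 47, 56, 64, 71],
  .cell [(true, 11), (false, 17), (false, 13), (false, 15), (true, 4)], .base 0 1381 2, .cell [(true, 3), (true, 1)],
  .pt 0 2165 2, .cell [(true, 16), (true, 7), (false, 1)], .pt 0 2980 1,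
  .cell [(true, 17), (true, 10), (false, 21), (true, 6), (true, 2)], .pt 0 480 2,
  .cell [(true, 17), (true, 28), (false, 9), (true, 6), (false, 1)], .pt 0 1777 1,
  .cell [(true, 17), (true, 11), (true, 3), (false, 0)], .pt 0 590 1,
  .cell [(true, 17), (false, 32), (false, 28), (true, 13), (false, 12), (true, 10), (false, 7), (true, 0)],
  .cell [(true, 19), (false, 14), (false, 13), (true, 11), (true, 10), (true, 1)],
  .cell [(true, 18), (true, 25), (true, 14), (false, 34), (false, 30), (false, 15), (false, 6), (false, 11), (true, 12)],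
  .fin 2 1 0] 3071 = true := by decide +kernel

theorem cC3 : chkC (rW 3) [
  .fix 1, .cell [(false, 2), (true, 0), (false, 1)], .base 0 536 1, .cnt 1 [1, 2, 3, 4, 8],
  .cell [(false, 9), (false, 5), (true, 0)], .base 0 114 3, .cell [(true, 3), (true, 2)], .pt 0 3334 3,
  .cell [(true, 12), (true, 13), (false, 4), (true, 6), (false, 2)], .base 0 164 3,
  .cell [(true, 15), (true, 17), (false, 5), (true, 2), (true, 1), (true, 6)], .pt 0 882 3,
  .cell [(true, 19), (true, 21), (false, 13), (true, 6), (true, 5), (true, 14)], .pt 0 2424 2,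
  .cell [(true, 22), (true, 24), (false, 12), (true, 9), (true, 13), (false, 8), (true, 1)], .pt 0 1083 1,
  .cell [(true, 22), (true, 10), (true, 13), (true, 26), (true, 14), (false, 30), (false, 19), (false, 2), (true, 3), (true, 0)],
  .cell [(true, 23), (true, 11), (true, 10), (true, 18), (true, 31), (true, 19), (false, 15), (false, 27), (false, 16), (true, 8)],
  .cell [(true, 25), (true, 20), (true, 16), (false, 28), (false, 13), (false, 12), (false, 32), (false, 21), (false, 17), (false, 9), (false, 7)],
  .fin 2 1 0] 215 = true := by decide +kernel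

theorem cC4 : chkC (rW 4) [
  .fix 1, .fix 2, .cell [(false, 3), (true, 0), (false, 2), (false, 1)], .base 0 9 2,
  .cell [(true, 4), (true, 1), (false, 6)], .base 0 379 1, .cell [(true, 6), (true, 8), (false, 3)], .cnt 0 [0, 1],
  .cell [(true, 9), (false, 6), (false, 11), (false, 10)], .cnt 0 [2, 4, 6, 8],
  .cell [(true, 16), (true, 11), (true, 10), (true, 8), (false, 14), (false, 5)], .cnt 0 [4, 6, 8, 12],
  .cell [(true, 21), (true, 16), (true, 15), (true, 13), (false, 19), (true, 0)], .cnt 0 [0, 2],
  .cell [(true, 24), (true, 19), (true, 16), (false, 18), (true, 11), (true, 1)], .cnt 0 [1, 2, 3, 4],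
  .cell [(true, 29), (true, 24), (true, 23), (true, 21), (false, 27), (true, 13), (true, 0)], .base 0 158 4,
  .cell [(true, 6), (true, 23), (true, 19), (true, 2), (true, 29), (true, 28), (true, 3)], .pt 0 3632 1,
  .cell [(true, 18), (true, 22), (true, 5), (true, 36), (true, 31), (false, 28), (true, 10), (true, 0)],
  .pt 0 1573 3,
  .cell [(true, 30), (true, 21), (true, 13), (true, 9), (false, 34), (false, 32), (false, 8), (true, 4)],
  .cell [(true, 17), (true, 27), (true, 21), (true, 15), (false, 10), (false, 35), (true, 41), (true, 5), (false, 1)],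
  .cell [(true, 14), (true, 37), (true, 27), (true, 10), (false, 36), (false, 11), (false, 8), (false, 42), (false, 34), (false, 23)],
  .fin 2 1 0] 383 = true := by decide +kernel

theorem cC5 : chkC (rW 5) [
  .fix 1, .fix 2, .cell [(true, 3), (true, 1)], .cnt 0 [1, 2, 3, 4, 7], .cell [(true, 9), (true, 0), (false, 6)],
  .cnt 0 [0, 24, 64], .cell [(true, 13), (true, 4), (true, 0)], .base 0 2188 2,
  .cell [(true, 2), (true, 1), (true, 0)], .base 0 2224 1, .cell [(true, 15), (true, 10)], .cnt 0 [0, 24],
  .cell [(true, 14), (true, 6), (true, 3), (true, 0)], .cnt 0 [0, 48], .cell [(true, 19), (true, 9), (true, 0)],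
  .adj 0 1, .cell [(true, 19), (true, 11), (true, 8), (false, 5)], .adj 0 1, .cnt 0 [0, 16],
  .cell [(true, 19), (true, 10), (true, 7), (false, 1)], .base 0 1522 1,
  .cell [(true, 27), (true, 17), (true, 8), (true, 0), (true, 6)], .cnt 0 [0, 4, 8, 10, 12],
  .cell [(true, 8), (true, 31), (true, 4)], .cnt 0 [2], .cell [(true, 18), (true, 0), (false, 5)],
  .cnt 0 [4, 10, 16], .cell [(true, 14), (true, 37), (true, 0)], .base 0 1491 2,
  .cell [(true, 9), (true, 5), (false, 44), (true, 1), (true, 0)], .base 0 1712 3,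
  .cell [(true, 25), (true, 4), (true, 5), (true, 2)], .pt 0 1546 2,
  .cell [(true, 21), (false, 3), (true, 8), (true, 0)], .pt 0 3510 2,
  .cell [(true, 20), (true, 15), (true, 10), (true, 11), (true, 8), (true, 7)],
  .cell [(true, 18), (false, 46), (true, 58), (true, 22), (true, 9), (true, 12), (false, 11), (false, 1)],
  .cell [(true, 16), (true, 53), (true, 44), (false, 12), (true, 10), (false, 9), (true, 2)], .fin 2 1 0] 127 = true := by decide +kernel

theorem cC6 : chkC (rW 6) [
  .fix 1, .fix 2, .cell [(true, 3), (true, 0), (false, 1)], .cnt 0 [23, 34, 40, 42, 44, 87], .base 0 158 2,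
  .cell [(true, 4), (true, 1), (true, 12)], .adj 0 1, .cnt 0 [16, 24, 32], .cell [(true, 8), (true, 6), (true, 2)],
  .cnt 0 [0, 16], .cell [(true, 10), (true, 9), (true, 8), (false, 1)], .base 0 2777 1,
  .cell [(true, 2), (false, 22)], .cnt 0 [24], .adj 6 1, .cnt 0 [8, 12, 20],
  .cell [(true, 19), (true, 12), (true, 17), (false, 4), (true, 2)], .adj 0 1, .cnt 0 [8],
  .cell [(true, 24), (true, 16), (true, 0)], .cnt 0 [4, 6, 8],
  .cell [(true, 35), (true, 24), (true, 13), (false, 32), (true, 1)], .cnt 0 [0, 32, 48],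
  .cell [(true, 34), (true, 2)], .base 0 1003 2,
  .cell [(true, 15), (true, 3), (true, 42), (true, 9), (true, 1), (true, 0)], .cnt 0 [0, 2],
  .cell [(true, 5), (true, 4), (false, 1)], .pt 0 1579 2,
  .cell [(true, 43), (true, 7), (false, 11), (true, 6), (false, 4), (true, 0)], .cnt 0 [0],
  .cell [(true, 11), (true, 9), (true, 15), (true, 50), (true, 8), (true, 44), (true, 5), (true, 0)],
  .cnt 0 [0, 2, 4], .cell [(true, 41), (false, 40), (true, 15), (true, 10), (true, 2)], .base 0 227 3,
  .cell [(true, 6), (true, 27), (true, 25), (true, 2), (true, 1)], .pt 0 1649 1,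
  .cell [(true, 22), (true, 16), (true, 8), (true, 4), (true, 0)], .pt 0 190 2,
  .cell [(true, 34), (true, 7), (false, 21), (false, 33), (true, 6), (false, 3)],
  .cell [(true, 36), (true, 8), (true, 64), (true, 23), (false, 11), (false, 4), (true, 2)],
  .cell [(true, 39), (true, 48), (true, 7), (false, 24), (false, 8), (true, 11), (true, 2)], .fin 2 1 0] 255 = true := by decide +kernel

theorem cC7 : chkC (rW 7) [
  .fix 1, .cell [(true, 2), (true, 0)], .base 0 30 1, .cell [(true, 2), (false, 4), (false, 3)], .base 0 1337 1,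
  .cnt 1 [0, 1, 2, 3], .cnt 7 [1, 5], .cell [(true, 8), (false, 12), (false, 6), (true, 2), (true, 1)],
  .cnt 0 [8, 10], .cell [(true, 11), (true, 9), (false, 15), (true, 3), (false, 1)], .base 0 356 4,
  .cell [(true, 13), (true, 6), (true, 9), (true, 3), (true, 2), (true, 1), (true, 0)], .pt 0 907 4,
  .cell [(true, 16), (true, 10), (true, 21), (true, 8), (true, 14), (false, 1), (true, 3)], .pt 0 758 2,
  .cell [(true, 18), (true, 14), (true, 11), (true, 9), (false, 10), (true, 8), (true, 17), (false, 4), (true, 6), (false, 5)],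
  .cell [(true, 20), (true, 14), (true, 12), (true, 10), (false, 18), (false, 23), (false, 25), (true, 4)],
  .cell [(true, 22), (true, 16), (true, 12), (true, 10), (false, 19), (false, 26), (true, 7), (false, 8), (false, 5), (true, 2)],
  .fin 2 1 0] 99 = true := by decide +kernel

theorem cC8 : chkC (rW 8) [
  .fix 1, .fix 2, .fix 3, .cell [(false, 4), (true, 2), (false, 3)], .pt 0 971 1,
  .cell [(false, 6), (true, 3), (false, 5), (false, 4)], .base 0 536 2,
  .cell [(true, 9), (true, 1), (true, 0), (true, 3), (true, 5)], .cnt 0 [0, 2, 4], .cell [(true, 6), (true, 2)],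
  .cnt 0 [0, 2, 3, 4], .cell [(true, 9), (false, 18), (false, 10), (false, 12), (true, 0), (true, 6)], .base 0 281 6,
  .cell [(true, 21), (true, 25), (true, 5), (true, 4), (true, 10)], .pt 0 3839 3,
  .cell [(true, 25), (true, 11), (true, 9), (false, 23), (true, 8)], .pt 0 3383 2,
  .cell [(true, 16), (true, 12), (true, 10), (true, 23), (true, 24), (true, 11), (true, 32), (true, 26), (true, 1)],
  .pt 0 2449 2,
  .cell [(true, 19), (true, 12), (true, 27), (true, 29), (false, 13), (false, 26), (false, 15), (false, 35), (false, 14), (true, 23), (false, 3), (true, 1)],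
  .cell [(true, 19), (true, 16), (true, 15), (true, 36), (false, 28), (true, 24), (false, 27), (false, 4), (false, 2)],
  .cell [(true, 24), (true, 21), (true, 14), (false, 37), (true, 12), (false, 13), (false, 28), (false, 31), (false, 29), (false, 8), (true, 2)],
  .fin 2 1 0] 23 = true := by decide +kernel

theorem cC9 : chkC (rW 9) [
  .fix 1, .fix 4, .cell [(true, 3), (true, 1)], .cnt 0 [0, 1, 2, 3], .cell [(true, 8), (true, 0), (true, 5)],
  .cnt 0 [40, 42, 87], .base 0 158 4, .cell [(true, 5), (true, 3), (true, 16)], .adj 0 1, .cnt 0 [0, 10, 12],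
  .cell [(true, 15), (true, 8), (true, 7), (true, 1)], .cnt 0 [8, 10, 12], .cell [(true, 15), (true, 6), (true, 2)],
  .cnt 0 [2, 4], .cell [(true, 11), (true, 5)], .cnt 0 [4, 6],
  .cell [(true, 20), (true, 31), (false, 18), (false, 17), (true, 1), (true, 4)], .cnt 0 [0, 8, 12],
  .cell [(true, 23), (true, 22), (true, 21), (true, 20), (true, 19), (true, 2)], .base 0 2577 1,
  .cell [(true, 15), (true, 0)], .cnt 0 [4, 6, 8], .cell [(true, 7), (true, 16), (true, 11), (true, 2)], .adj 0 1,
  .base 0 475 8, .cell [(true, 27), (true, 21), (true, 4), (true, 7), (true, 6)], .pt 0 1668 1,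
  .cell [(true, 48), (true, 32), (true, 6), (true, 2), (true, 25), (true, 40), (true, 13), (true, 0)],
  .cell [(true, 19), (true, 23), (true, 10), (true, 3), (true, 27), (true, 14), (false, 9), (false, 8), (true, 1)],
  .cell [(true, 20), (true, 48), (true, 10), (true, 14), (true, 5), (false, 42), (false, 28), (false, 11), (false, 2)],
  .fin 2 1 0] 63 = true := by decide +kernel

theorem cC10 : chkC (rW 10) [
  .fix 1, .fix 2, .fix 4, .cell [(true, 4), (true, 1), (false, 2)], .cnt 0 [0, 2, 3, 4, 6],
  .cell [(true, 10), (true, 0), (false, 8), (false, 6)], .cnt 0 [0],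
  .cell [(true, 12), (true, 8), (false, 0), (false, 9)], .base 0 2188 2, .cell [(true, 11), (true, 6)], .cnt 0 [24],
  .cell [(true, 17), (true, 3), (true, 2), (true, 9), (true, 0)], .cnt 0 [48, 64],
  .cell [(true, 14), (false, 5), (true, 1)], .adj 0 1, .cnt 0 [10, 14, 15],
  .cell [(true, 25), (true, 11), (true, 10), (true, 17), (true, 8), (true, 2)], .cnt 0 [8, 10, 32],
  .cell [(true, 18), (true, 0)], .base 0 744 4, .cell [(true, 9), (false, 3), (false, 2), (false, 1)], .base 0 853 6,
  .cell [(true, 13), (false, 41), (true, 3), (true, 5), (true, 26), (true, 10)],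
  .cell [(true, 15), (true, 18), (false, 28), (true, 3), (true, 1), (true, 8)],
  .cell [(true, 23), (true, 36), (true, 29), (true, 7), (true, 5), (true, 10), (true, 3)], .fin 2 1 0] 15 = true := by decide +kernel

theorem cC11 : chkC (rW 11) [
  .fix 1, .fix 2, .fix 5, .cell [(false, 4), (true, 1), (false, 3)], .base 0 1337 2,
  .cell [(true, 4), (true, 7), (false, 5)], .cnt 0 [0, 1, 2, 4],
  .cell [(true, 12), (true, 6), (true, 5), (false, 9), (true, 3), (true, 8)], .base 0 1973 5,
  .cell [(true, 6), (true, 12), (false, 18), (false, 3), (false, 2), (false, 1), (true, 4)], .pt 0 464 7,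
  .cell [(true, 16), (true, 10), (true, 8), (false, 26), (true, 20), (true, 19), (false, 4), (false, 1), (true, 3)],
  .cell [(true, 16), (true, 27), (true, 11), (true, 20), (false, 21), (false, 5), (false, 7), (false, 6), (true, 1)],
  .cell [(true, 17), (true, 14), (true, 13), (true, 12), (false, 22), (true, 11), (false, 28), (false, 21), (false, 7), (false, 4), (true, 2)],
  .fin 2 1 0] 19 = true := by decide +kernel

theorem cC12 : chkC (rW 12) [
  .fix 1, .fix 3, .fix 4, .cell [(false, 4), (true, 2), (false, 3)], .pt 0 971 1,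
  .cell [(true, 6), (true, 3), (false, 0)], .base 0 718 2, .cell [(true, 6), (true, 3), (false, 9)],
  .cnt 0 [0, 1, 2], .cell [(false, 13), (false, 5), (false, 7), (false, 4), (true, 2), (false, 10), (true, 9)],
  .cnt 0 [3, 4, 8], .cnt 0 [2], .cell [(true, 18), (true, 10), (true, 12), (false, 9), (true, 6), (true, 2)],
  .cnt 0 [0, 2], .cell [(true, 18), (true, 11), (false, 1)], .pt 0 2172 3,
  .cell [(true, 25), (true, 17), (true, 16), (true, 19), (false, 22), (true, 4), (false, 7), (true, 1)],
  .cnt 0 [2, 8],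
  .cell [(false, 28), (false, 20), (false, 22), (false, 19), (true, 17), (false, 25), (true, 0), (false, 8)],
  .base 0 236 2, .cell [(true, 5), (true, 0)], .adj 0 1, .base 0 3508 8, .cell [(true, 9), (false, 8), (true, 6)],
  .pt 0 1852 1, .cell [(true, 28), (true, 18), (true, 12), (true, 37), (true, 22), (true, 8), (true, 2), (false, 0)],
  .cell [(true, 28), (true, 17), (true, 44), (true, 35), (true, 20), (false, 8), (true, 13)],
  .cell [(true, 30), (true, 32), (false, 21), (true, 7), (true, 37), (true, 4), (true, 14), (true, 27)], .fin 2 1 0] 11 = true := by decide +kernel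

theorem cC13 : chkC (rW 13) [
  .fix 1, .cell [(false, 2), (true, 0), (false, 1)], .cnt 0 [0, 3], .cell [(true, 5), (true, 0)], .cnt 0 [68],
  .cell [(true, 7), (true, 3), (false, 0)], .cnt 0 [44, 48, 51], .cell [(true, 11), (true, 7), (true, 2)],
  .cnt 0 [12, 15, 20, 24], .cell [(false, 16), (true, 12), (true, 0)], .base 0 959 12,
  .cell [(true, 15), (true, 22), (false, 6), (false, 3), (false, 1), (true, 9)], .pt 0 2146 2,
  .cell [(true, 22), (true, 17), (true, 13), (true, 11), (true, 4)],
  .cell [(true, 22), (true, 12), (true, 8), (true, 4), (false, 1)],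
  .cell [(true, 21), (false, 12), (false, 10), (false, 9), (false, 7), (false, 6)], .fin 2 1 0] 12 = true := by decide +kernel

theorem cC14 : chkC (rW 14) [
  .fix 1, .fix 2, .fix 8, .cell [(true, 4), (true, 1), (false, 2)], .base 0 2498 2,
  .cell [(true, 7), (true, 1), (true, 0), (false, 5), (true, 3)], .cnt 0 [40, 44], .adj 1 1, .cnt 0 [20, 22, 24],
  .cell [(true, 14), (true, 8), (false, 7), (false, 11), (true, 1)], .cnt 0 [44, 48, 96], .base 0 2101 7,
  .cell [(true, 9), (true, 6), (true, 25), (true, 5)], .cnt 0 [2],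
  .cell [(true, 15), (true, 27), (false, 4), (true, 6), (true, 0)], .cnt 0 [0, 2, 6],
  .cell [(true, 14), (true, 21), (true, 12), (true, 2)], .adj 0 1, .base 0 2413 11,
  .cell [(true, 13), (true, 34), (true, 5), (true, 23), (true, 10), (false, 9)],
  .cell [(true, 33), (true, 11), (true, 10), (true, 1), (true, 20), (false, 25), (false, 8)],
  .cell [(true, 32), (true, 16), (false, 46), (true, 5), (true, 11), (true, 9)], .fin 2 1 0] 15 = true := by decide +kernel

/-- the orders of the centralizers in `²F₄(2)` -/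
def cH : List ℕ := [35942400, 20480, 3072, 216, 384, 128, 256, 100, 24, 64, 16, 20, 12, 13, 16]

theorem cent_rW : ∀ t < 15, Nat.card (Subgroup.centralizer ({wv (rW t)} : Set H1)) ≤ cH.getD t 0 := by
  intro t ht
  interval_cases t
  exacts [(Subgroup.card_le_card_group _).trans card_H1.le, cent_le cC1, cent_le cC2, cent_le cC3, cent_le cC4, cent_le cC5, cent_le cC6, cent_le cC7, cent_le cC8, cent_le cC9, cent_le cC10, cent_le cC11, cent_le cC12, cent_le cC13, cent_le cC14]

end Cfsg.Agent.TAB.Sm2.Tits
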